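import Cfsg.Agent.H93.Local
import Cfsg.Agent.H93.Agemo
import Cfsg.Agent.S1896
import Cfsg.Agent.S0112
import Cfsg.Agent.S0115
import Cfsg.Agent.S4143
import Cfsg.Agent.S4399

/-!
# Metacyclic strongly closed `2`-subgroups
-/

namespace Cfsg.Agent.H93

open Cfsg Cfsg.FusionSystem
open Cfsg.Agent.H91

theorem metacyclic_of_injective {G H : Type*} [Group G] [Group H] (h : IsMetacyclic G) (f : H →* G)
    (hf : Function.Injective f) : IsMetacyclic H := by
  obtain ⟨N, hN, h1, h2⟩ := h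
  refine ⟨N.comap f, inferInstance, isCyclic_of_injective (f.subgroupComap N) fun a b e =>
    Subtype.ext (hf (congrArg Subtype.val e)), isCyclic_of_injective
      (QuotientGroup.map (N.comap f) N f le_rfl) ?_⟩
  rw [injective_iff_map_eq_one]
  intro a ha
  obtain ⟨a, rfl⟩ := QuotientGroup.mk_surjective a
  exact (QuotientGroup.eq_one_iff a).2 ((QuotientGroup.eq_one_iff (f a)).1 ha)

theorem mem_zpowers_or {G : Type*} [Group G] [Finite G] [IsCyclic G] {p : ℕ} [hp : Fact p.Prime]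
    (hG : IsPGroup p G) (x y : G) : x ∈ Subgroup.zpowers y ∨ y ∈ Subgroup.zpowers x := by
  obtain ⟨g, hg⟩ := IsCyclic.exists_monoid_generator (α := G)
  have key : ∀ x : G, x = 1 ∨ ∃ i, Subgroup.zpowers x = Subgroup.zpowers (g ^ p ^ i) := fun x => by
    obtain ⟨a, rfl⟩ := hg x
    rcases eq_or_ne a 0 with rfl | ha
    · exact Or.inl (pow_zero g)
    obtain ⟨i, b, hb, rfl⟩ := Nat.exists_eq_pow_mul_and_not_dvd ha p hp.out.ne_one
    refine Or.inr ⟨i, le_antisymm ((Subgroup.zpowers_le).2 ?_) ((Subgroup.zpowers_le).2 ?_)⟩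
    · simp only [pow_mul]; exact Subgroup.pow_mem _ (Subgroup.mem_zpowers _) b
    · simp only [pow_mul]
      obtain ⟨k, hk⟩ := IsPGroup.iff_orderOf.1 hG (g ^ p ^ i)
      rw [mem_zpowers_pow_iff, hk]
      exact Nat.Coprime.pow_right k ((hp.out.coprime_iff_not_dvd.2 hb).symm)
  rcases key x with rfl | ⟨i, hi⟩
  · exact Or.inl (Subgroup.one_mem _)
  rcases key y with rfl | ⟨j, hj⟩
  · exact Or.inr (Subgroup.one_mem _)
  have h : ∀ {i j}, i ≤ j → Subgroup.zpowers (g ^ p ^ j) ≤ Subgroup.zpowers (g ^ p ^ i) :=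
    fun {i j} h => (Subgroup.zpowers_le).2 (by
      obtain ⟨k, rfl⟩ := Nat.exists_eq_add_of_le h
      rw [pow_add, pow_mul]; exact Subgroup.pow_mem _ (Subgroup.mem_zpowers _) _)
  rcases le_total i j with h' | h'
  · exact Or.inr (hi ▸ h h' (hj ▸ Subgroup.mem_zpowers y))
  · exact Or.inl (hj ▸ h h' (hi ▸ Subgroup.mem_zpowers x))

/-- In a metacyclic `2`-group, an element `t` normalizing an abelian subgroup `R` with `t ^ 2 ∈ R`
moves each `a ∈ R` by a square of `R` or by an involution. -/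
theorem metacyclic_swap {G : Type*} [Group G] [Finite G] (hG : IsPGroup 2 G) (h : IsMetacyclic G)
    {R : Subgroup G} (hab : ∀ x ∈ R, ∀ y ∈ R, x * y = y * x) {t : G}
    (ht : ∀ x ∈ R, t * x * t⁻¹ ∈ R) (ht2 : t ^ 2 ∈ R) {a : G} (ha : a ∈ R) :
    (∃ d ∈ R, a⁻¹ * (t * a * t⁻¹) = d ^ 2) ∨ (a⁻¹ * (t * a * t⁻¹)) ^ 2 = 1 := by
  haveI : Fact (Nat.Prime 2) := ⟨Nat.prime_two⟩
  obtain ⟨N, hN, h1, h2⟩ := h
  set c := a⁻¹ * (t * a * t⁻¹) with hc
  have hcR : c ∈ R := R.mul_mem (R.inv_mem ha) (ht a ha)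
  have hcN : c ∈ N := by
    letI := h2.commGroup
    rw [← QuotientGroup.eq_one_iff, hc]
    simp only [QuotientGroup.mk_mul, QuotientGroup.mk_inv]
    rw [mul_comm (t : G ⧸ N), mul_inv_cancel_right, inv_mul_cancel]
  have hNc : ∀ x ∈ N, Commute x c := fun x hx => by
    letI := h1.commGroup
    exact congrArg Subtype.val (mul_comm (⟨x, hx⟩ : N) ⟨c, hcN⟩)
  have htc : t * c * t⁻¹ = c⁻¹ := by
    calc t * c * t⁻¹ = (t * a * t⁻¹)⁻¹ * (t ^ 2 * a * (t ^ 2)⁻¹) := by rw [hc, pow_two]; group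
      _ = c⁻¹ := by rw [hab _ ht2 a ha, hc]; group
  have fin : Commute t c → c ^ 2 = 1 := fun e => by
    rw [e.eq, mul_inv_cancel_right] at htc
    rw [pow_two]; nth_rewrite 1 [htc]; exact inv_mul_cancel c
  have hac : Commute a c := hab a ha c hcR
  have h2c : Commute (t ^ 2) c := hab _ ht2 c hcR
  rcases mem_zpowers_or (hG.to_quotient N) (t : G ⧸ N) a with ⟨k, hk⟩ | ⟨k, hk⟩
  · refine Or.inr (fin ?_)
    have h3 : (a ^ k)⁻¹ * t ∈ N := QuotientGroup.eq.1 hk
    have := (hac.zpow_left k).mul_left (hNc _ h3)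
    rwa [mul_inv_cancel_left] at this
  · have h3 : (t ^ k)⁻¹ * a ∈ N := QuotientGroup.eq.1 hk
    obtain ⟨m, rfl | rfl⟩ := Int.even_or_odd' k
    · rw [zpow_mul, zpow_ofNat] at h3
      set u := ((t ^ 2) ^ m)⁻¹ * a with hu
      have huR : u ∈ R := R.mul_mem (R.inv_mem (R.zpow_mem ht2 m)) ha
      have h4 : u⁻¹ * (t * u * t⁻¹) = c := by rw [hu, hc]; group
      have sq : ∀ j : ℤ, u = c ^ j → c = (c ^ (-j)) ^ 2 := fun j hj => by
        nth_rewrite 1 [← h4]
        rw [hj, ← conj_zpow, htc]; group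
      rcases mem_zpowers_or (hG.to_subgroup N) ⟨u, h3⟩ ⟨c, hcN⟩ with ⟨j, hj⟩ | ⟨j, hj⟩
      · exact Or.inl ⟨_, R.zpow_mem hcR _, sq j (congrArg Subtype.val hj).symm⟩
      · have hj' : u ^ j = c := congrArg Subtype.val hj
        obtain ⟨l, rfl | rfl⟩ := Int.even_or_odd' j
        · exact Or.inl ⟨u ^ l, R.zpow_mem huR l, by rw [← hj']; group⟩
        · obtain ⟨n, hn⟩ := IsPGroup.iff_orderOf.1 hG u
          obtain ⟨j, hj⟩ : u ∈ Subgroup.zpowers (u ^ (2 * l + 1)) := by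
            rw [mem_zpowers_zpow_iff, hn]
            exact Int.isCoprime_iff_gcd_eq_one.1 (by
              push_cast
              exact IsCoprime.pow_right ⟨1, -l, by ring⟩)
          exact Or.inl ⟨_, R.zpow_mem hcR _, sq j (by rw [← hj']; exact hj.symm)⟩
    · refine Or.inr (fin ?_)
      have h4 : Commute (t ^ (2 * m + 1)) c := by
        have := (hac.mul_left (hNc _ h3).inv_left)
        rwa [mul_inv_rev, inv_inv, mul_inv_cancel_left] at this
      have := (h2c.zpow_left m).inv_left.mul_left h4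
      rwa [zpow_add_one, zpow_mul, zpow_ofNat, inv_mul_cancel_left] at this

theorem exists_sq_of_sq_eq_one {n : ℕ} (hn : n ≠ 1) (x : Multiplicative (ZMod (2 ^ n)))
    (h : x ^ 2 = 1) : ∃ y, x = y ^ 2 := by
  obtain ⟨k, hk⟩ := ZMod.intCast_surjective x.toAdd
  have h1 : ((2 * k : ℤ) : ZMod (2 ^ n)) = 0 := by
    have := congrArg Multiplicative.toAdd h
    rw [toAdd_pow, toAdd_one, ← hk, nsmul_eq_mul] at this
    exact_mod_cast this
  rw [ZMod.intCast_zmod_eq_zero_iff_dvd] at h1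
  rcases n with _ | _ | n
  · exact ⟨1, Subsingleton.elim (α := ZMod 1) _ _⟩
  · exact absurd rfl hn
  · obtain ⟨m, hm⟩ : (2 : ℤ) ∣ k := by
      have h2 : (2 : ℤ) * 2 ∣ 2 * k := Dvd.dvd.trans ⟨2 ^ n, by push_cast; ring⟩ h1
      exact Int.dvd_of_mul_dvd_mul_left two_ne_zero h2
    refine ⟨Multiplicative.ofAdd (m : ZMod _), Multiplicative.toAdd.injective ?_⟩
    rw [toAdd_pow, toAdd_ofAdd, ← hk, hm, nsmul_eq_mul]
    push_cast; rfl

theorem list_of_maximal_class {X : Type*} [Group X] [Finite X] (hX : IsPGroup 2 X) {n : ℕ}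
    (hn : 3 ≤ n) (hc : Nat.card X = 2 ^ n) (h : Group.nilpotencyClass X = n - 1) :
    (∃ m : ℕ, Nonempty (X ≃* DihedralGroup m)) ∨ (∃ m : ℕ, Nonempty (X ≃* QuaternionGroup m)) ∨
      IsQuasiDihedral X := by
  have h1 := (S0115.result n hn hc).1 h
  rcases S4399.result hX h1.card_four (fun x => by
    rw [← h1.exponent_two]; exact Monoid.pow_exponent_eq_one x) with h2 | ⟨k, h2⟩ | ⟨k, h2⟩ | ⟨k, h2⟩
  · have := Nat.pow_le_pow_right two_pos hn
    omega
  · exact Or.inl ⟨_, h2⟩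
  · exact Or.inr (Or.inr ⟨k + 3, by omega, h2.1, h2.2⟩)
  · exact Or.inr (Or.inl ⟨_, h2⟩)

variable {Ω : Type*} [Group Ω] {S : Subgroup Ω} {F : FusionSystem S}

theorem metacyclic_normal [Finite S] [hp : Fact (Nat.Prime 2)] (hS : IsPGroup 2 S)
    (hF : F.IsSaturated 2) {T : Subgroup Ω} (hT : F.StronglyClosed T) (hm : IsMetacyclic T)
    (hd : ¬ ∃ m : ℕ, Nonempty (T ≃* DihedralGroup m))
    (hq : ¬ ∃ m : ℕ, Nonempty (T ≃* QuaternionGroup m)) (hsd : ¬ IsQuasiDihedral T) :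
    F.IsNormal T := by
  haveI := finite_of_le hT.1
  have hTp := isPGroup_of_le hS hT.1
  refine normal_of_local' hS hF hT fun R hR hfn hrad => ?_
  haveI := finite_of_le hfn.1
  obtain ⟨t, ht, htR, ht2⟩ := exists_normalizer_pow_mem hTp hR
  have htS : t ∈ normalizerIn S R := ⟨hT.1 ht.1, ht.2⟩
  have hO : cjAut R t ht.2 ∉ opIn 2 (F.autGroup R) := fun h => htR (hrad ⟨ht.1, mem_preAut.2 ⟨htS, h⟩⟩)
  have hC : Subgroup.centralizer ((R.subgroupOf T : Subgroup T) : Set T) ≤ R.subgroupOf T :=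
    fun g hg => hrad ⟨g.2, centralizerIn_le_preAut _ _ _ (mem_centralizerIn.2 ⟨hT.1 g.2,
      fun x hx => congrArg Subtype.val (hg ⟨x, hR.le hx⟩ hx)⟩)⟩
  have e₀ := Subgroup.subgroupOfEquivOfLe hR.le
  obtain ⟨n, hn⟩ := hTp.exists_card_eq
  have hlt := card_lt_of_lt hR
  have fin : 4 ≤ Nat.card R → Group.nilpotencyClass T ≠ n - 1 := fun h4 h => by
    have h3 : 3 ≤ n := by
      by_contra h5
      have := Nat.pow_le_pow_right two_pos (show n ≤ 2 by omega)
      omega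
    rcases list_of_maximal_class hTp h3 hn h with h | h | h
    exacts [hd h, hq h, hsd h]
  rcases S1896.result (isPGroup_of_le hS hfn.1)
    (metacyclic_of_injective hm _ (Subgroup.inclusion_injective hR.le)) (fun h => hO
      (le_opIn (h.to_subgroup _) le_rfl (fun a ha b hb => Subgroup.mul_mem _
        (Subgroup.mul_mem _ ha hb) (Subgroup.inv_mem _ ha)) (cjAut_mem_autGroup F hfn.1 htS)))
    with ⟨⟨e⟩⟩ | ⟨k, ⟨e⟩⟩
  · have hc : Nat.card R = 2 ^ 3 := by
      rw [Nat.card_congr e.toEquiv, Nat.card_eq_fintype_card, QuaternionGroup.card]; rfl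
    refine fin (by omega) (S4143.result n hn (R.subgroupOf T)
      ((Nat.card_congr e₀.toEquiv).trans hc) (fun h => ?_) hC)
    have := congrArg (e₀.trans e) (h.is_comm.comm ((e₀.trans e).symm (QuaternionGroup.a 1))
      ((e₀.trans e).symm (QuaternionGroup.xa 0)))
    simp only [map_mul, MulEquiv.apply_symm_apply] at this
    revert this; decide
  have hab : ∀ x ∈ R, ∀ y ∈ R, x * y = y * x := fun x hx y hy => congrArg Subtype.val
    (e.injective (by rw [map_mul, map_mul, mul_comm]) : (⟨x, hx⟩ : R) * ⟨y, hy⟩ = ⟨y, hy⟩ * ⟨x, hx⟩)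
  by_cases hk : k = 1
  · subst hk
    have hc : Nat.card R = 2 ^ 2 := by
      rw [Nat.card_congr e.toEquiv, Nat.card_prod, Nat.card_congr Multiplicative.toAdd,
        Nat.card_zmod]; rfl
    exact fin (by omega) (S0112.result n hn (R.subgroupOf T) ((Nat.card_congr e₀.toEquiv).trans hc)
      (le_antisymm hC fun g hg x hx => Subtype.ext (hab _ hx _ hg)))
  have hsq : ∀ a ∈ R, ∃ d ∈ R, a⁻¹ * (t * a * t⁻¹) = d ^ 2 := fun a ha => by
    rcases metacyclic_swap hTp hm (R := R.subgroupOf T)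
      (fun x hx y hy => Subtype.ext (hab _ hx _ hy)) (t := ⟨t, ht.1⟩)
      (fun x hx => conj_mem_of_mem_normalizer (P := R) ht.2 hx) ht2 (a := ⟨a, hR.le ha⟩) ha
      with ⟨d, hd, h⟩ | h
    · exact ⟨d, hd, congrArg Subtype.val h⟩
    · have h1 : (a⁻¹ * (t * a * t⁻¹)) ^ 2 = 1 := congrArg Subtype.val h
      have h2 := R.mul_mem (R.inv_mem ha) (conj_mem_of_mem_normalizer ht.2 ha)
      have h3 : e ⟨_, h2⟩ ^ 2 = 1 := by rw [← map_pow, ← map_one e]; exact congrArg e (Subtype.ext h1)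
      obtain ⟨y, hy⟩ := exists_sq_of_sq_eq_one hk _ (congrArg Prod.fst h3)
      obtain ⟨y', hy'⟩ := exists_sq_of_sq_eq_one hk _ (congrArg Prod.snd h3)
      refine ⟨e.symm (y, y'), (e.symm (y, y')).2, congrArg Subtype.val
        (e.injective ?_ : (⟨_, h2⟩ : R) = e.symm (y, y') ^ 2)⟩
      rw [map_pow, MulEquiv.apply_symm_apply]
      exact Prod.ext hy hy'
  refine hO (mem_opIn_of_chain (isPGroup_of_le hS hfn.1) (fun i => powerClosure 2 (k - i) R) k ?_ ?_
    ?_ (cjAut_mem_autGroup F hfn.1 htS) ?_)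
  · refine eq_bot_iff.2 fun y hy => ?_
    obtain ⟨x, hx, rfl⟩ := (mem_powerClosure_abelian hab).1 hy.2
    have : e ⟨x, hx⟩ ^ 2 ^ k = 1 := by
      have h1 : ∀ u : Multiplicative (ZMod (2 ^ k)), u ^ 2 ^ k = 1 := fun u => by
        apply Multiplicative.toAdd.injective
        rw [toAdd_pow, toAdd_one, nsmul_eq_mul, ZMod.natCast_self, zero_mul]
      exact Prod.ext (h1 _) (h1 _)
    rw [← map_pow, map_eq_one_iff e e.injective] at this
    exact congrArg Subtype.val this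
  · exact fun x hx => (mem_powerClosure_abelian hab).2 ⟨x, hx, by simp⟩
  · intro α _ i _ x _ hx
    obtain ⟨y, hy, rfl⟩ := (mem_powerClosure_abelian hab).1 hx
    exact (mem_powerClosure_abelian hab).2 ⟨_, efn_mem α hy, (homOn_efn α).map_pow hy _⟩
  · intro i hi x hx hx'
    obtain ⟨y, hy, rfl⟩ := (mem_powerClosure_abelian hab).1 hx'
    obtain ⟨d, hd, e'⟩ := hsq y hy
    refine (mem_powerClosure_abelian hab).2 ⟨d, hd, ?_⟩
    have h1 : Commute y⁻¹ (t * y * t⁻¹) :=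
      hab _ (R.inv_mem hy) _ (conj_mem_of_mem_normalizer ht.2 hy)
    rw [efn_cjAut _ _ _ hx, ← conj_pow, ← inv_pow, ← h1.mul_pow, e', ← pow_mul,
      show k - i = (k - (i + 1)) + 1 by omega, pow_succ']

end Cfsg.Agent.H93
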