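import Cfsg.Agent.H93.L2Sol
import Cfsg.Agent.S5737

/-! Binary coset actions of `PSL₂(q)`: the configurations that are excluded. -/

set_option autoImplicit false

open Matrix Matrix.ProjGenLinGroup Subgroup OnePoint
open scoped MatrixGroups

namespace Cfsg.Agent.H93.L2

open H28 H23.Pgl S5737

section General

variable {G : Type*} [Group G]

theorem bin_of_ti {H : Subgroup G}
    (hT : ∀ g, ∀ x ∈ H, x ≠ 1 → g⁻¹ * x * g ∈ H → ∀ y ∈ H, g⁻¹ * y * g ∈ H)
    (h3 : ∀ x ∈ H, ∀ y g k, g⁻¹ * y * g ∈ H → k⁻¹ * (y⁻¹ * x) * k ∈ H → x ≠ 1 → y ≠ 1 →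
      y⁻¹ * x ≠ 1 → y ∈ H) : Bin H := bin_of fun a b => by
  induction a using QuotientGroup.induction_on with | H s =>
  induction b using QuotientGroup.induction_on with | H t =>
  refine or_iff_not_imp_right.2 fun h g hg => ?_
  push Not at h
  obtain ⟨c, x, y, hx, hy, hc, hc'⟩ := h
  induction c using QuotientGroup.induction_on with | H u =>
  rw [← inv_smul_eq_iff, ← mul_smul] at hc
  have hy1 : y ≠ 1 := by
    rintro rfl
    exact hc' (by simpa using hc)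
  have hx1 : x ≠ 1 := by
    rintro rfl
    exact hc' (one_smul _ _)
  rw [smul_mk_eq] at hx hy hc hg ⊢
  have e : ∀ z, (s⁻¹ * t)⁻¹ * (s⁻¹ * z * s) * (s⁻¹ * t) = t⁻¹ * z * t := fun z => by group
  have n : ∀ z, z ≠ 1 → s⁻¹ * z * s ≠ 1 := fun z hz h => hz (by
    rwa [mul_assoc, inv_mul_eq_one, eq_comm, mul_eq_right] at h)
  have key : s⁻¹ * y * s ∈ H := by
    by_cases h : y⁻¹ * x = 1
    · rwa [inv_mul_eq_one.1 h]
    have e' : (s⁻¹ * y * s)⁻¹ * (s⁻¹ * x * s) = s⁻¹ * (y⁻¹ * x) * s := by group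
    refine h3 _ hx _ (s⁻¹ * t) (s⁻¹ * u) (by rwa [e]) ?_ (n x hx1) (n y hy1) (e' ▸ n _ h)
    convert hc using 1
    group
  exact e g ▸ hT _ _ key (n y hy1) (by rwa [e]) _ hg

/-- The consequence of binarity for quadruples of cosets, relative to an overgroup `L`. -/
def Quad (L M : Subgroup G) : Prop := ∀ g ∈ L, ∀ g' ∈ L, ∀ k ∈ L, ∀ x ∈ M, ∀ y z,
  g⁻¹ * y * g ∈ M → g'⁻¹ * z * g' ∈ M → k⁻¹ * (x⁻¹ * y) * k ∈ M → k⁻¹ * (x⁻¹ * z) * k ∈ M →
    ∃ d ∈ M, g⁻¹ * d * g ∈ M ∧ g'⁻¹ * d * g' ∈ M ∧ k⁻¹ * (x⁻¹ * d) * k ∈ M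

theorem quad_top {H : Subgroup G} (h : Bin H) : Quad ⊤ H := by
  rintro g - g' - k - x a1 y z a2 a3 a4 a5
  have b1 : x • ((1 : G) : G ⧸ H) = (1 : G) := by rw [smul_mk_eq]; simpa using a1
  have b2 : y • (g : G ⧸ H) = g := (smul_mk_eq _ _ _).2 a2
  have b2' : z • (g' : G ⧸ H) = g' := (smul_mk_eq _ _ _).2 a3
  have b3 : x • (k : G ⧸ H) = (x * k : G) := rfl
  have b4 : y • (k : G ⧸ H) = (x * k : G) := by rw [smul_mk_eq]; simpa [mul_assoc] using a4
  have b5 : z • (k : G ⧸ H) = (x * k : G) := by rw [smul_mk_eq]; simpa [mul_assoc] using a5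
  obtain ⟨d, hd⟩ := h 4 ![(1 : G), g, g', k] ![(1 : G), g, g', (x * k : G)] (by omega) (by
    intro i j hij
    fin_cases i <;> fin_cases j <;> first
      | exact absurd rfl hij
      | exact ⟨1, one_smul _ _, one_smul _ _⟩
      | exact ⟨x, b1, b3⟩ | exact ⟨x, b3, b1⟩ | exact ⟨y, b2, b4⟩ | exact ⟨y, b4, b2⟩
      | exact ⟨z, b2', b5⟩ | exact ⟨z, b5, b2'⟩)
  refine ⟨d, by simpa using (smul_mk_eq _ _ _).1 (hd 0), (smul_mk_eq _ _ _).1 (hd 1),
    (smul_mk_eq _ _ _).1 (hd 2), ?_⟩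
  simpa [mul_assoc] using (smul_mk_eq _ _ _).1 (hd 3)

theorem quad_of_bin {G' : Type*} [Group G'] {ρ : G →* G'} (hρ : Function.Injective ρ)
    {H : Subgroup G} (h : Bin H) : Quad ρ.range (H.map ρ) := by
  rintro _ ⟨g, rfl⟩ _ ⟨g', rfl⟩ _ ⟨k, rfl⟩ _ ⟨x, hx, rfl⟩ y z a2 a3 a4 a5
  have key : ∀ g y, (ρ g)⁻¹ * y * ρ g ∈ H.map ρ → ∃ y', ρ y' = y := by
    rintro g y ⟨a, -, ha⟩
    exact ⟨g * a * g⁻¹, by rw [map_mul, map_mul, ha, map_inv]; group⟩
  obtain ⟨y, rfl⟩ := key _ _ a2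
  obtain ⟨z, rfl⟩ := key _ _ a3
  simp only [← map_inv, ← map_mul, mem_map_iff_mem hρ] at a2 a3 a4 a5
  obtain ⟨d, h1, h2⟩ := quad_top h g trivial g' trivial k trivial x hx y z a2 a3 a4 a5
  refine ⟨ρ d, ⟨d, h1, rfl⟩, ?_⟩
  simpa only [← map_inv, ← map_mul, mem_map_iff_mem hρ] using h2

theorem Quad.cj {L M : Subgroup G} [hL : L.Normal] (h : Quad L M) (w : G) : Quad L (cj M w) := by
  intro g hg g' hg' k hk x hx y z a2 a3 a4 a5
  have e : ∀ g y, (w⁻¹ * g * w)⁻¹ * (w⁻¹ * y * w) * (w⁻¹ * g * w) = w⁻¹ * (g⁻¹ * y * g) * w :=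
    fun g y => by group
  have e' : ∀ g y, (w⁻¹ * g * w)⁻¹ * (w⁻¹ * y * w) = w⁻¹ * (g⁻¹ * y) * w := fun g y => by group
  rw [mem_cj] at hx a2 a3 a4 a5
  obtain ⟨d, h1, h2⟩ := h _ (hL.conj_mem' _ hg w) _ (hL.conj_mem' _ hg' w) _ (hL.conj_mem' _ hk w)
    _ hx (w⁻¹ * y * w) (w⁻¹ * z * w) (by rwa [e]) (by rwa [e]) (by rwa [e', e]) (by rwa [e', e])
  obtain ⟨d, rfl⟩ : ∃ d', d = w⁻¹ * d' * w := ⟨w * d * w⁻¹, by group⟩
  rw [e g, e g', e', e] at h2
  exact ⟨d, mem_cj.2 h1, mem_cj.2 h2.1, mem_cj.2 h2.2.1, mem_cj.2 h2.2.2⟩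

theorem Quad.tri {L M : Subgroup G} (h : Quad L M) {g k x y : G} (hg : g ∈ L) (hk : k ∈ L)
    (hx : x ∈ M) (a2 : g⁻¹ * y * g ∈ M) (a3 : k⁻¹ * (x⁻¹ * y) * k ∈ M) :
    ∃ d ∈ M, g⁻¹ * d * g ∈ M ∧ k⁻¹ * (x⁻¹ * d) * k ∈ M :=
  let ⟨d, h1, h2, _, h3⟩ := h g hg g hg k hk x hx y y a2 a2 a3 a3
  ⟨d, h1, h2, h3⟩

theorem dih_comm {T : Subgroup G} {n : ℕ} (e : T ≃* DihedralGroup n) {a b s : G} (ha : a ∈ T)
    (hb : b ∈ T) (hs : s ∈ T) (ha' : a * a ≠ 1) (hb' : b * b ≠ 1) (h : s * b = b * s) :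
    s * a = a * s := by
  have key : ∀ a b s : DihedralGroup n, a * a ≠ 1 → b * b ≠ 1 → s * b = b * s → s * a = a * s := by
    rintro (i | i) (j | j) (k | k) <;> simp [add_comm, -DihedralGroup.r_zero, DihedralGroup.one_def]
    intro _ h1 h2
    exact absurd (by linear_combination h2) h1
  have := key (e ⟨a, ha⟩) (e ⟨b, hb⟩) (e ⟨s, hs⟩)
  simp only [← map_mul, Ne, map_eq_one_iff e e.injective, e.injective.eq_iff,
    Subtype.ext_iff] at this
  exact this ha' hb' h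

theorem le_of_dih {T H : Subgroup G} {n : ℕ} (e : T ≃* DihedralGroup n)
    (h : ∀ g ∈ T, g * g = 1 → g ∈ H) : T ≤ H := fun g hg => by
  have key : ∀ i, (e.symm (DihedralGroup.sr i) : G) ∈ H := fun i => h _ (e.symm _).2 (by
    rw [← coe_mul, ← map_mul]; simp)
  obtain ⟨a, ha⟩ := e.symm.surjective ⟨g, hg⟩
  obtain rfl : (e.symm a : G) = g := congrArg Subtype.val ha
  cases a with
  | sr i => exact key i
  | r i => simpa [← coe_mul, ← map_mul] using mul_mem (key 0) (key i)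

/-- Every involution commutes with an element of order greater than two. -/
def BigC (G : Type*) [Group G] : Prop :=
  ∀ s : G, s * s = 1 → s ≠ 1 → ∃ b, s * b = b * s ∧ b * b ≠ 1

theorem BigC.equiv {G' : Type*} [Group G'] (h : BigC G) (e : G ≃* G') : BigC G' := fun s h1 h2 => by
  obtain ⟨s, rfl⟩ := e.surjective s
  rw [← map_mul, map_eq_one_iff e e.injective] at h1
  obtain ⟨b, h3, h4⟩ := h s h1 (by simpa using h2)
  exact ⟨e b, by rw [← map_mul, h3, map_mul], by rwa [← map_mul, Ne, map_eq_one_iff e e.injective]⟩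

theorem not_bigC_a4 : ¬ BigC A4 := fun h => absurd (h s1 (by decide +kernel) (by decide +kernel))
  (by decide +kernel)

theorem not_bigC_s4 : ¬ BigC S4 := fun h =>
  absurd (h (Equiv.swap 0 1) (by decide +kernel) (by decide +kernel)) (by decide +kernel)

theorem not_bigC_a5 : ¬ BigC A5 := fun h =>
  absurd (h ⟨Equiv.swap 0 1 * Equiv.swap 2 3, Equiv.Perm.mem_alternatingGroup.2 (by decide +kernel)⟩
    (by decide +kernel) (by decide +kernel)) (by decide +kernel)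

theorem eq_one_of_odd {H : Subgroup G} (h : Odd (Nat.card H)) {d : G} (hd : d ∈ H)
    (h2 : d * d = 1) : d = 1 := by
  by_contra h1
  have := Subgroup.orderOf_dvd_natCard H hd
  rw [orderOf_eq_prime (p := 2) (by rwa [sq]) h1] at this
  exact Nat.not_even_iff_odd.2 h (even_iff_two_dvd.2 this)

end General

variable {F : Type*} [Field F]

local notation "M2" => Matrix (Fin 2) (Fin 2) F

theorem mem_tor_of_comm {x y : PGL(2, F)} (hx : x * x ≠ 1) (h : y * x = x * y) : y ∈ tor x := by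
  induction x using ProjGenLinGroup.induction_on with | mk X =>
  induction y using ProjGenLinGroup.induction_on with | mk Y =>
  refine mem_tor.2 ((comm_or_anti h).elim id fun h' => ?_)
  by_cases h2 : (2 : F) = 0
  · rw [h', neg_eq_iff_add_eq_zero, ← two_smul F, h2, zero_smul]
  · exact absurd (mul_self_of_gtr (gtr_of_anti h2 h')) hx

theorem comm_of_comm {d x y : PGL(2, F)} (hd : d * d ≠ 1) (hx : x * d = d * x)
    (hy : y * d = d * y) : y * x = x * y :=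
  comm_of_mem_tor (tor_le (by rintro rfl; simp at hd) (mem_tor_of_comm hd hx)
    (mem_tor_of_comm hd hy))

theorem fricke {A B : GL (Fin 2) F} (h : (B : M2) * A = A * B) (hA : gdet A = 1) (hB : gdet B = 1) :
    gtr A ^ 2 + gtr B ^ 2 + gtr (A * B) ^ 2 - gtr A * gtr B * gtr (A * B) = 4 := by
  have h0 := congrFun₂ h 0 0
  have h1 := congrFun₂ h 0 1
  have h2 := congrFun₂ h 1 0
  simp only [gtr, gdet, Units.val_mul, Matrix.mul_apply, Fin.sum_univ_two] at *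
  linear_combination (4 * (B 0 0 * B 1 1 - B 0 1 * B 1 0) - (B 0 0 + B 1 1) ^ 2) * hA +
    (4 - (A 0 0 + A 1 1) ^ 2) * hB + (B 0 1 * A 1 0 - A 0 1 * B 1 0) * h0 +
    (B 1 0 * A 0 0 + B 1 1 * A 1 0 - (A 1 0 * B 0 0 + A 1 1 * B 1 0)) * h1

theorem pow_char_of_gtr (p : ℕ) [CharP F p] {X : GL (Fin 2) F} (hX : gdet X = 1)
    (h : gtr X ^ 2 = 4) : mk X ^ p = 1 := by
  let X' : SL(2, F) := ⟨X, by rw [← gdet_eq, hX]⟩
  have eX : slProj F X' = mk X := congrArg mk (Units.ext rfl)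
  rw [← eX, ← map_pow, slProj_eq_one_iff, ← H66.sl2_mem_center_iff]
  exact H66.pow_char_mem_center p h

theorem exists_macbeath [Finite F] {t : F} (ht : t ^ 2 ≠ 4) (c : F) : ∃ A B : GL (Fin 2) F,
    gdet A = 1 ∧ gdet B = 1 ∧ gtr A = t ∧ gtr B = t ∧ gtr (A * B) = c := by
  have h4 : 4 - t ^ 2 ≠ 0 := sub_ne_zero.2 ht.symm
  obtain ⟨a, b, h1, h2⟩ : ∃ a b : F, t - 2 * a + t * b = 0 ∧ -2 * b - t ^ 2 + t * a + c = 0 :=
    ⟨(2 * t - t ^ 3 + t * c) / (4 - t ^ 2), (2 * c - t ^ 2) / (4 - t ^ 2),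
      by field_simp; ring, by field_simp; ring⟩
  obtain ⟨x, y, h⟩ := H66.exists_binary_form_eq (t := -t) (d := 1) (by simpa using ht)
    (a * t - a ^ 2 - b ^ 2 - t ^ 2 * b + t * a * b + c * b - 1)
  have hd : (a + x) * (t - (a + x)) - (b + y) * (b + y + t ^ 2 - t * (a + x) - c) = 1 := by
    linear_combination x * h1 + y * h2 - h
  obtain ⟨h', e⟩ := gl2_mul' (a := (0 : F)) (b := -1) (c := 1) (d := t) (h := by simp)
    (h' := ne_of_eq_of_ne hd one_ne_zero)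
  refine ⟨_, _, ?_, ?_, ?_, ?_, (congrArg gtr e).trans ?_⟩ <;>
    simp only [gdet_gl2, gtr_gl2, hd] <;> ring

theorem comm_of_quad [Finite F] {M : Subgroup PGL(2, F)} (h : Quad (pslIn F) M)
    (hc : ∀ a ∈ M, ∀ b ∈ M, a * b = b * a) (ho : Odd (Nat.card M)) {X A B : GL (Fin 2) F}
    (hX : mk X ∈ M) (dX : gdet X = 1) (hA : gdet A = 1) (hB : gdet B = 1) (h4 : gtr X ^ 2 ≠ 4)
    (h1 : gtr A ^ 2 = gtr X ^ 2) (h2 : gtr B ^ 2 = gtr X ^ 2) (h3 : gtr (A * B) ^ 2 = gtr X ^ 2) :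
    (B : M2) * A = A * B := by
  have := pslIn_normal (F := F)
  obtain ⟨w, -, hw⟩ := exists_conj_of_gtr dX hA h4 h1
  have h' := h.cj w
  have hA' : mk A ∈ cj M w := ⟨_, hX, hw⟩
  have hc' : ∀ a ∈ cj M w, ∀ b ∈ cj M w, a * b = b * a := by
    rintro _ ⟨a, ha, rfl⟩ _ ⟨b, hb, rfl⟩
    rw [← map_mul, hc a ha b hb, map_mul]
  have ho' : Odd (Nat.card (cj M w)) := by rwa [card_map_conj]
  generalize cj M w = N at h' hA' hc' ho'
  rw [← h1] at h2 h3 h4
  obtain ⟨g, hg, eg⟩ := exists_conj_of_gtr hA hB h4 h2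
  obtain ⟨k, hk, ek⟩ := exists_conj_of_gtr hA (by rw [gdet_mul, hA, hB, one_mul]) h4 h3
  have a1 : g⁻¹ * mk B * g ∈ N := by rw [← eg]; simpa [mul_assoc] using hA'
  have a2 : k⁻¹ * (mk A * mk B) * k ∈ N := by rw [← map_mul, ← ek]; simpa [mul_assoc] using hA'
  obtain ⟨d, b1, b2, b3⟩ := h'.tri hg hk (inv_mem hA') a1 (by rwa [inv_inv])
  have hA2 : mk A * mk A ≠ 1 := fun e => by
    have := pgl_mk_eq_one_iff.1 (eq_one_of_odd ho' hA' e)
    rw [gdet, this.1, ← this.2.2] at hA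
    exact h4 (by rw [gtr, ← this.2.2]; linear_combination 4 * hA)
  refine mem_tor.1 (mem_tor_of_comm hA2 ?_)
  by_cases hd : d = 1
  · rw [hd, inv_inv, mul_one] at b3
    have := hc' _ b3 _ a2
    simp only [mul_assoc, mul_inv_cancel_left, mul_right_inj] at this
    exact mul_right_cancel (b := k) (by simpa only [mul_assoc] using this.symm)
  · refine comm_of_comm (fun e => hd (eq_one_of_odd ho' b1 e)) (hc' _ hA' _ b1) ?_
    have := hc' _ a1 _ b2
    simp only [mul_assoc, mul_inv_cancel_left, mul_right_inj] at this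
    exact mul_right_cancel (b := g) (by simpa only [mul_assoc] using this)

theorem eq_zero_of_aniso {a b c d e f g : F} (hd : a * d - b * c = 1)
    (hn : ∀ l : F, l ^ 2 - (a + d) * l + 1 ≠ 0) (h1 : e ^ 2 + f * g = 0)
    (h2 : e * (a - d) + f * c + g * b = 0) : e = 0 ∧ f = 0 ∧ g = 0 := by
  by_cases hg : g = 0
  · subst hg
    obtain rfl : e = 0 := by simpa using h1
    refine ⟨rfl, by_contra fun hf => hn a ?_⟩
    obtain rfl : c = 0 := by simpa [show f ≠ 0 from fun e => hf ⟨e, rfl⟩] using h2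
    linear_combination -hd
  · refine absurd ?_ (hn ((c * e + d * g) / g))
    field_simp
    linear_combination -g ^ 2 * hd + c ^ 2 * h1 - c * g * h2

/-- Three elements of order three with product one, in even characteristic. -/
theorem eq_inv_of_three [CharP F 2] (hn : ∀ l : F, l ^ 2 + l + 1 ≠ 0) {x y : PGL(2, F)}
    (hx : x ^ 3 = 1) (hy : y ^ 3 = 1) (hxy : (y * x) ^ 3 = 1) (h1 : x ≠ 1) (h2 : y ≠ 1)
    (h3 : y * x ≠ 1) : y = x := by
  have h : (2 : F) = 0 := CharP.cast_eq_zero F 2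
  have key : ∀ t : F, t ^ 2 - 1 = 0 → t = 1 := fun t ht =>
    sub_eq_zero.1 (pow_eq_zero_iff (n := 2) (by simp) |>.1 (by linear_combination ht + (1 - t) * h))
  obtain ⟨X, rfl, hX⟩ := exists_lift (mem_pslIn_of_pow_three hx)
  obtain ⟨Y, rfl, hY⟩ := exists_lift (mem_pslIn_of_pow_three hy)
  rw [← map_mul] at hxy h3
  have a := ((mk_pow_three_iff X).1 hx).resolve_right h1
  have b := ((mk_pow_three_iff Y).1 hy).resolve_right h2
  have c := ((mk_pow_three_iff _).1 hxy).resolve_right h3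
  rw [gdet_mul, hX, hY, one_mul] at c
  rw [hX] at a
  rw [hY] at b
  have a := key _ a
  have b := key _ b
  have c := key _ c
  simp only [gtr, gdet, Units.val_mul, Matrix.mul_apply, Fin.sum_univ_two] at a b c hX hY
  obtain ⟨e1, e2, e3⟩ := eq_zero_of_aniso (e := Y 0 0 - X 0 0) (f := Y 0 1 - X 0 1)
    (g := Y 1 0 - X 1 0) hX (fun l hl => hn l (by rw [a] at hl; linear_combination hl + l * h))
    (by linear_combination (Y 0 0 - X 0 0 + 1) * b + (X 0 0 + Y 1 1) * a - hY - hX - h - c)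
    (by linear_combination c - X 1 1 * b - (1 + X 0 0) * a + (X 0 0 * X 1 1 - X 0 1 * X 1 0) * h)
  congr 1
  ext i j
  fin_cases i <;> fin_cases j
  · exact sub_eq_zero.1 e1
  · exact sub_eq_zero.1 e2
  · exact sub_eq_zero.1 e3
  · exact (by linear_combination b - a - e1 : Y 1 1 = X 1 1)

theorem pow_three_of_quad [Finite F] {M : Subgroup PGL(2, F)} (h : Quad (pslIn F) M)
    (hc : ∀ a ∈ M, ∀ b ∈ M, a * b = b * a) (ho : Odd (Nat.card M)) {X : GL (Fin 2) F}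
    (hX : mk X ∈ M) (dX : gdet X = 1) (h4 : gtr X ^ 2 ≠ 4) :
    (2 : F) = 0 ∧ gtr X = 1 ∧ ∀ l : F, l ^ 2 + l + 1 ≠ 0 := by
  have hne : ∀ s : F, s ^ 2 = 1 → gtr X - 2 * s ≠ 0 := fun s hs e =>
    h4 (by rw [sub_eq_zero.1 e]; linear_combination 4 * hs)
  obtain ⟨A, B, a1, a2, a3, a4, a5⟩ := exists_macbeath h4 (gtr X)
  have e1 := fricke (comm_of_quad h hc ho hX dX a1 a2 h4 (by rw [a3]) (by rw [a4]) (by rw [a5])) a1 a2
  obtain ⟨A', B', b1, b2, b3, b4, b5⟩ := exists_macbeath h4 (-gtr X)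
  have e2 := fricke (comm_of_quad h hc ho hX dX b1 b2 h4 (by rw [b3]) (by rw [b4])
    (by rw [b5, neg_sq])) b1 b2
  rw [a3, a4, a5] at e1
  rw [b3, b4, b5] at e2
  have e3 : gtr X + 1 = 0 := (mul_eq_zero.1 (show (gtr X - 2 * 1) ^ 2 * (gtr X + 1) = 0 by
    linear_combination -e1)).resolve_left (pow_ne_zero 2 (hne 1 (by simp)))
  have e4 : gtr X - 1 = 0 := (mul_eq_zero.1 (show (gtr X - 2 * -1) ^ 2 * (gtr X - 1) = 0 by
    linear_combination e2)).resolve_left (pow_ne_zero 2 (hne (-1) (by simp)))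
  have h2 : (2 : F) = 0 := by linear_combination e3 - e4
  refine ⟨h2, sub_eq_zero.1 e4, fun l hl => ?_⟩
  have hd : ∀ b, l * l ^ 2 - b * 0 = 1 := fun b => by linear_combination (l - 1) * hl
  obtain ⟨h', e⟩ := gl2_mul' (h := ne_of_eq_of_ne (hd 0) one_ne_zero)
    (h' := ne_of_eq_of_ne (hd 1) one_ne_zero)
  have ht : (l + l ^ 2) ^ 2 = gtr X ^ 2 := by
    linear_combination (l ^ 2 + l - 1) * hl - (gtr X + 1) * e4
  have := comm_of_quad h hc ho hX dX ((gdet_gl2 _ _ _ _ _).trans (hd 0))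
    ((gdet_gl2 _ _ _ _ _).trans (hd 1)) h4 ((congrArg (· ^ 2) (gtr_gl2 _ _ _ _ _)).trans ht)
    ((congrArg (· ^ 2) (gtr_gl2 _ _ _ _ _)).trans ht)
    (by rw [e, gtr_gl2, ← ht]; linear_combination (l ^ 6 - l ^ 5 + 2 * l ^ 4 - l ^ 3 - l ^ 2) * hl)
  have h5 : l ^ 2 = l := by simpa [gl2_coe] using congrFun₂ this 0 1
  have h6 : l = 0 := by linear_combination l * hl - (l + 2) * h5 - l * h2
  simp [h6] at hl

variable [DecidableEq F]

theorem not_quad_uni [Finite F] (h2 : (2 : F) ≠ 0) {M : Subgroup PGL(2, F)} (h : Quad (pslIn F) M)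
    (hM : ∀ g ∈ M, g • (∞ : OnePoint F) = ∞) (ho : Odd (Nat.card M)) {c : F} (hc : c ≠ 0) :
    aff 1 c ∉ M := fun hx => by
  have d1 : 0 * 0 - c / 2 * (-2 / c) = 1 := by field_simp; ring
  have d2 : ∀ e : F, 1 * 1 - 0 * e = 1 := fun e => by ring
  let g := mk (gl2 _ _ _ _ (ne_of_eq_of_ne d1 one_ne_zero))
  let l := fun e => mk (gl2 _ _ _ _ (ne_of_eq_of_ne (d2 e) one_ne_zero))
  have hg : g ∈ pslIn F := mem_pslIn_iff.2 (by rw [gdet_gl2, d1]; exact IsSquare.one)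
  have hl : l (-2 / c) ∈ pslIn F := mem_pslIn_iff.2 (by rw [gdet_gl2, d2]; exact IsSquare.one)
  have e1 : l (4 / c) * g = g * aff 1 (-c) := mk_mul_eq_of (c := 1) (by
    ext i j
    fin_cases i <;> fin_cases j <;> simp [gl2_coe, hc]
    field_simp
    ring)
  have e2 : aff 1 (-c) * l (4 / c) * l (-2 / c) = l (-2 / c) * aff 1 c := by
    rw [aff, ← map_mul]
    refine mk_mul_eq_of (c := -1) ?_
    ext i j
    fin_cases i <;> fin_cases j <;> simp [gl2_coe] <;> field_simp <;> ring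
  have e3 : (aff 1 c)⁻¹ = aff 1 (-c) := by simp [aff_inv]
  obtain ⟨d, b1, b2, b3⟩ := h.tri (y := l (4 / c)) hg hl hx
    (by rw [mul_assoc, e1, inv_mul_cancel_left, ← e3]; exact inv_mem hx)
    (by rwa [e3, mul_assoc, e2, inv_mul_cancel_left])
  obtain ⟨a, b, rfl⟩ := exists_aff (hM d b1)
  have f1 : g • (∞ : OnePoint F) = ((0 : F) : OnePoint F) := by
    rw [mk_smul_pt, smul_infty_eq_ite]; simp [gl2_00, gl2_10, hc, h2]
  have f2 : l (-2 / c) • (∞ : OnePoint F) = ((-c / 2 : F) : OnePoint F) := by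
    rw [mk_smul_pt, smul_infty_eq_ite]; simp [gl2_00, gl2_10, hc, h2, div_neg, neg_div]
  have c2 := hM _ b2
  have c3 := hM _ b3
  rw [mul_smul, mul_smul, inv_smul_eq_iff, f1, aff_smul_coe, coe_eq_coe, mul_zero, zero_add] at c2
  rw [mul_smul, mul_smul, inv_smul_eq_iff, f2, mul_smul, inv_smul_eq_iff, aff_smul_coe,
    aff_smul_coe, coe_eq_coe, c2] at c3
  have c4 : (a : F) = -1 := by
    refine mul_right_cancel₀ (div_ne_zero hc h2) ?_
    rw [Units.val_one] at c3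
    linear_combination -c3 + c * (mul_inv_cancel₀ h2)
  have c5 := (aff_inj ((eq_one_of_odd ho b1 (by
    rw [aff_mul, ← aff_one_zero, c2, show a * a = 1 from Units.ext (by simp [c4])]
    simp)).trans aff_one_zero.symm)).1
  rw [c5, Units.val_one] at c4
  exact h2 (by linear_combination c4)

theorem conj_aff {a : Fˣ} {b w : F} (h : a * w + b = w) :
    (aff 1 w * swp 1)⁻¹ * aff a b * (aff 1 w * swp 1) = aff a⁻¹ 0 := by
  have e : aff a 0 * swp 1 = swp 1 * aff a⁻¹ 0 := mk_mul_eq_of (c := a) (by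
    ext i j
    fin_cases i <;> fin_cases j <;> simp [gl2_coe])
  have e' : aff a b * aff 1 w = aff 1 w * aff a 0 := by simp [aff_mul, h]
  rw [mul_assoc, ← mul_assoc (aff a b), e', mul_assoc, e, ← mul_assoc (aff 1 w),
    inv_mul_cancel_left]

theorem eq_one_of_quad (h2 : (2 : F) = 0) {M : Subgroup PGL(2, F)} (h : Quad ⊤ M)
    (hM : ∀ g ∈ M, g • (∞ : OnePoint F) = ∞) (hU : ∀ c, aff 1 c ∈ M) {a : Fˣ} {b : F}
    (hx : aff a b ∈ M) : a = 1 := by
  by_contra ha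
  have ha' : (a : F) - 1 ≠ 0 := fun e => ha (Units.ext (sub_eq_zero.1 e))
  have ha2 : (a : F) + 1 ≠ 0 := fun e => ha' (by linear_combination e - h2)
  have h0 : aff a⁻¹ 0 ∈ M := by
    have := mul_mem (hU (↑a⁻¹ * b)) (inv_mem hx)
    simpa [aff_inv, aff_mul] using this
  have h1 : aff (a * a)⁻¹ 0 ∈ M := by simpa [aff_mul] using mul_mem h0 h0
  have e3 : ∀ c : F, (aff 1 c)⁻¹ = aff 1 (-c) := fun c => by simp [aff_inv]
  have hw : ∀ w : F, (aff 1 w * swp 1) • (∞ : OnePoint F) = w := fun w => by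
    rw [mul_smul, swp_smul_infty, aff_smul_coe]; simp
  obtain ⟨d, b1, b2, b3, b4⟩ := h (aff 1 0 * swp 1) trivial (aff 1 1 * swp 1) trivial
    (aff 1 (((a : F) + 1) / a) * swp 1) trivial _ (hU ((a - 1) * (a + 1) / a)) (aff a 0)
    (aff (a * a) (1 - a * a)) (by rwa [conj_aff (by simp)]) (by rwa [conj_aff (by simp)])
    (by rw [e3, aff_mul, one_mul, conj_aff (by simp; field_simp; ring)]; exact h0)
    (by rw [e3, aff_mul, one_mul, conj_aff (by simp; field_simp; ring)]; exact h1)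
  have c2 := hM _ b2
  have c3 := hM _ b3
  have c4 := hM _ b4
  rw [mul_smul, mul_smul, inv_smul_eq_iff, hw] at c2 c3 c4
  rw [eq_one_of_frame (hM d b1) c2 c3, mul_one, inv_smul_eq_iff, aff_smul_coe, coe_eq_coe,
    Units.val_one, one_mul, left_eq_add] at c4
  exact div_ne_zero (mul_ne_zero ha' ha2) a.ne_zero c4

theorem exists_aff_one (p : ℕ) [Fact p.Prime] [CharP F p] {x : PGL(2, F)} (hx : x ^ p = 1)
    (h1 : x ≠ 1) (ha : x • (∞ : OnePoint F) = ∞) : ∃ c ≠ 0, x = aff 1 c := by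
  obtain ⟨u, c, rfl⟩ := exists_aff ha
  obtain rfl := (aff_pow_char p u c).1 hx
  exact ⟨c, by rintro rfl; exact h1 aff_one_zero, rfl⟩

theorem pslIn_le_of_moves {M : Subgroup PGL(2, F)} (hU : ∀ c, aff 1 c ∈ M) {g : PGL(2, F)}
    (hg : g ∈ M) (h : g • (∞ : OnePoint F) ≠ ∞) : pslIn F ≤ M := by
  refine pslIn_le hU fun c => ?_
  obtain ⟨z, hz⟩ := OnePoint.ne_infty_iff_exists.1 h
  obtain ⟨u, b, e⟩ := exists_aff (g := (swp 1)⁻¹ * (aff 1 (-z) * g)) (by
    rw [mul_smul, mul_smul, ← hz, aff_smul_coe, inv_smul_eq_iff, swp_smul_infty]; simp)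
  have e' : aff u b * aff 1 (↑u⁻¹ * c) * (aff u b)⁻¹ = aff 1 c := by simp [aff_mul, aff_inv]
  have := mul_mem (mul_mem (mul_mem (hU (-z)) hg) (hU (↑u⁻¹ * c))) (inv_mem (mul_mem (hU (-z)) hg))
  convert this using 1
  rw [← e', ← e]
  group

variable [Finite F]

omit [DecidableEq F] in
theorem psl_one_class (x y : PSL(2, F)) (hx1 : x ≠ 1) (hx : x ^ 2 = 1) (hy1 : y ≠ 1)
    (hy : y ^ 2 = 1) : ∃ g, x = g * y * g⁻¹ := by
  classical
  suffices ∃ g ∈ pslIn F, g * pslInc F y * g⁻¹ = pslInc F x by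
    obtain ⟨g, hg, e⟩ := this
    obtain ⟨g, rfl⟩ := exists_pslInc_eq hg
    exact ⟨g, pslInc_injective (by simp only [← e, map_mul, map_inv])⟩
  have a1 : ∀ x : PSL(2, F), x ^ 2 = 1 → pslInc F x ^ 2 = 1 := fun x h => by
    rw [← map_pow, h, map_one]
  have a2 : ∀ x : PSL(2, F), x ≠ 1 → pslInc F x ≠ 1 := fun x h => by
    rwa [Ne, map_eq_one_iff _ pslInc_injective]
  by_cases h2 : (2 : F) = 0
  swap
  · exact exists_conj_of_pow_two h2 (pslInc_mem y) (pslInc_mem x) (a1 y hy) (a1 x hx) (a2 y hy1)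
      (a2 x hx1)
  have : CharP F 2 := CharTwo.of_one_ne_zero_of_two_eq_zero one_ne_zero h2
  have key : ∀ x : PGL(2, F), x ^ 2 = 1 → x ≠ 1 → ∃ t, t⁻¹ * x * t = aff 1 1 := fun x h h1 => by
    obtain ⟨a, ha⟩ := exists_fix_of_pow_char 2 h
    obtain ⟨t, rfl⟩ := exists_smul_infty a
    obtain ⟨c, hc, e⟩ := exists_aff_one 2 (x := t⁻¹ * x * t⁻¹⁻¹) (by rw [conj_pow, h]; simp)
      (fun e => h1 (by rwa [mul_inv_eq_one, mul_eq_left] at e)) (by simp [mul_smul, ha])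
    refine ⟨t * aff (Units.mk0 c hc) 0, ?_⟩
    rw [_root_.mul_inv_rev, mul_assoc, mul_assoc, ← mul_assoc x, ← mul_assoc t⁻¹, ← mul_assoc t⁻¹,
      ← inv_inv t, inv_inv t⁻¹, e]
    simp [aff_mul, aff_inv, hc]
  obtain ⟨t, ht⟩ := key _ (a1 x hx) (a2 x hx1)
  obtain ⟨s, hs⟩ := key _ (a1 y hy) (a2 y hy1)
  refine ⟨t * s⁻¹, ?_, ?_⟩
  · rw [pslIn_eq_top (Nat.mod_eq_zero_of_dvd (char_dvd_card (F := F) 2))]; trivial
  · calc _ = t * (s⁻¹ * pslInc F y * s) * t⁻¹ := by group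
      _ = _ := by rw [hs, ← ht]; group

omit [DecidableEq F] in
theorem omega_iff [CharP F 2] : (∃ l : F, l ^ 2 + l + 1 = 0) ↔ 3 ∣ Nat.card F - 1 := by
  have h : (2 : F) = 0 := CharP.cast_eq_zero F 2
  have : Fact (Nat.Prime 3) := ⟨Nat.prime_three⟩
  rw [← Nat.card_units]
  constructor
  · rintro ⟨l, hl⟩
    have h0 : l ≠ 0 := by rintro rfl; simp at hl
    have : orderOf (Units.mk0 l h0) = 3 := orderOf_eq_prime
      (Units.ext (by simp; linear_combination (l - 1) * hl)) fun e => by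
        obtain rfl : l = 1 := congrArg Units.val e
        exact one_ne_zero (α := F) (by linear_combination hl - h)
    exact this ▸ orderOf_dvd_natCard _
  · intro h3
    obtain ⟨u, hu⟩ := exists_prime_orderOf_dvd_card' 3 h3
    have h1 : (u : F) ^ 3 = 1 := by rw [← Units.val_pow_eq_pow_val, ← hu, pow_orderOf_eq_one]; rfl
    have h2 : (u : F) - 1 ≠ 0 := fun e => by
      rw [show u = 1 from Units.ext (sub_eq_zero.1 e)] at hu; simp at hu
    exact ⟨u, mul_left_cancel₀ h2 (by linear_combination h1)⟩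

omit [DecidableEq F] in
theorem pgl_three_equiv (h : Nat.card F = 3) : Nonempty (PGL(2, F) ≃* S4) := by
  obtain ⟨φ, hφ, -⟩ := exists_sym4 (F := F) (two_ne_zero_of (by omega))
  exact ⟨(MulEquiv.ofBijective φ ((Nat.bijective_iff_injective_and_card φ).2
    ⟨hφ, by rw [card_sym4, card_pgl_two, h]; rfl⟩)).symm⟩

/-- In odd characteristic no proper subgroup of even order contains all involutions commuting
with one of its involutions. -/
theorem eq_top_of_invol (ho : Nat.card F % 2 = 1) (h7 : 5 < Nat.card F) {H : Subgroup PSL(2, F)}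
    (hI : ∀ z ∈ H, z ≠ 1 → z * z = 1 → ∀ y, y * y = 1 → z * y = y * z → y ∈ H) {t : PSL(2, F)}
    (ht : t ∈ H) (h1 : t ≠ 1) (h2 : t * t = 1) : H = ⊤ := by
  obtain ⟨p, hp⟩ := CharP.exists F
  have hp' : Fact p.Prime := ⟨CharP.char_is_prime F p⟩
  have hp2 := (odd_card_iff (F := F) p).1 ho
  have hd := card_of_range_eq pslInc_injective (range_pslInc (F := F))
  rw [((gcd_cases (by omega)).resolve_right (by omega)).2] at hd
  have key : ∀ z ∈ H, z ≠ 1 → z * z = 1 → torN z ≤ H ∧ ∃ n, Nonempty (torN z ≃* DihedralGroup n) ∧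
      p.Coprime n ∧ 4 ≤ n ∧ Nat.card F ≤ 2 * n + 1 ∧ ∀ y ∈ torN z, z * y = y * z := by
    intro z hz z1 z2
    have ho : orderOf z = 2 := orderOf_eq_prime (by rwa [sq]) z1
    obtain ⟨n, ⟨e⟩, h3, h4⟩ := torN_card pslInc_injective p range_pslInc.ge hd (c := z) fun e =>
      hp2 ((Nat.prime_dvd_prime_iff_eq Nat.prime_two hp'.out).1
        (ho ▸ orderOf_dvd_of_pow_eq_one e)).symm
    have hC : ∀ y ∈ torN z, z * y = y * z := fun y hy => by
      rwa [mem_torN, inv_eq_of_mul_eq_one_left z2, or_self, mul_inv_eq_iff_eq_mul, eq_comm] at hy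
    rw [ho] at h3
    exact ⟨le_of_dih e fun y hy y2 => hI z hz z1 z2 y y2 (hC y hy), n, ⟨e⟩, coprime_of_tor
      (char_dvd_card (F := F) p) (h4.imp And.right And.right), by omega, by omega, hC⟩
  have hr : ∀ {r : PSL(2, F)} {n : ℕ}, orderOf r = n → 4 ≤ n → r * r ≠ 1 := fun h h' e => by
    have := Nat.le_of_dvd two_pos (orderOf_dvd_of_pow_eq_one ((sq _).trans e))
    omega
  have hB : BigC H := fun s s2 s1 => by
    obtain ⟨l, n, ⟨e⟩, -, h4, -, hC⟩ := key s s.2 (by simpa using s1) (congrArg Subtype.val s2)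
    obtain ⟨r, h5, h6, -⟩ := exists_rot e
    exact ⟨⟨r, l h5⟩, Subtype.ext (hC r h5), fun e => hr h6 h4 (congrArg Subtype.val e)⟩
  obtain ⟨l, n, ⟨e⟩, h3, h4, h5, hC⟩ := key t ht h1 h2
  obtain ⟨r, h6, h7, ⟨s, h8, h9⟩, -⟩ := exists_rot e
  by_contra hH
  rcases dickson pslInc_injective p H (not_le_map_of_ne_top pslInc_injective range_pslInc hH) with
    ⟨z, h'⟩ | ⟨c, -, hc, h'⟩ | ⟨-, -, ⟨f⟩⟩ | ⟨-, -, ⟨f⟩⟩ | ⟨-, -, ⟨f⟩⟩ | ⟨w, K, k2, hK, h'⟩
  · have := Nat.le_of_dvd two_pos (dvd_two_of_le_stab pslInc_injective p e h3 (l.trans h'))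
    omega
  · obtain ⟨m, ⟨f⟩, -⟩ := torN_card pslInc_injective p range_pslInc.ge hd hc
    have hne : s * r ≠ r * s := fun e => hr h7 h4 (by
      rw [e, mul_inv_cancel_right] at h9
      exact mul_eq_one_iff_eq_inv.2 h9)
    by_cases s2 : s * s = 1
    · obtain ⟨b, b1, b2⟩ := hB ⟨s, l h8⟩ (Subtype.ext s2) (by
        intro e; exact hne (by simp [show s = 1 from congrArg Subtype.val e]))
      exact hne (dih_comm f (h' (l h6)) (h' b.2) (h' (l h8)) (hr h7 h4)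
        (fun e => b2 (Subtype.ext e)) (congrArg Subtype.val b1))
    · exact hne (dih_comm f (h' (l h6)) (h' (l h8)) (h' (l h8)) (hr h7 h4) s2 rfl)
  · exact not_bigC_a4 (hB.equiv f)
  · exact not_bigC_s4 (hB.equiv f)
  · exact not_bigC_a5 (hB.equiv f)
  have a1 := orderOf_le_of_map_le pslInc_injective (map_le_cj_subPGL pslInc_injective h') (l h6)
  have a2 := sq_le_of_ne_top hK
  have a3 : Nat.card K = 3 := by nlinarith
  obtain ⟨F₀, _, _, a4, ⟨f⟩, ⟨f'⟩⟩ := exists_small_pgl K w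
  have f0 := H.equivMapOfInjective _ (pslInc_injective (F := F))
  rcases h' with h' | ⟨-, h'⟩
  · obtain ⟨f2⟩ := pgl_three_equiv (F := F₀) (by rw [Nat.card_eq_fintype_card, a4, a3])
    exact not_bigC_s4 (hB.equiv (f0.trans ((MulEquiv.subgroupCongr h').trans (f.trans f2))))
  · obtain ⟨f2⟩ := S0251.result (a4.trans a3)
    exact not_bigC_a4 (hB.equiv (f0.trans ((MulEquiv.subgroupCongr h').trans (f'.trans f2))))

/-- A subgroup of odd order with binary coset action is abelian of order prime to `p`. -/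
theorem comm_of_odd (p : ℕ) [hp : Fact p.Prime] [CharP F p] {H : Subgroup PSL(2, F)} (hH : H ≠ ⊤)
    (hQ : Quad (pslIn F) (H.map (pslInc F))) (ho : Odd (Nat.card H)) :
    (∀ a ∈ H, ∀ b ∈ H, a * b = b * a) ∧ ¬ p ∣ Nat.card H := by
  have hd := card_of_range_eq pslInc_injective (range_pslInc (F := F))
  have hp2 : p ∣ Nat.card H → p ≠ 2 := by
    rintro h rfl
    exact Nat.not_even_iff_odd.2 ho (even_iff_two_dvd.2 h)
  have hc := card_map_of_injective (K := H) (pslInc_injective (F := F))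
  rw [Nat.odd_iff] at ho
  rcases dickson pslInc_injective p H (not_le_map_of_ne_top pslInc_injective range_pslInc hH) with
    ⟨z, h'⟩ | ⟨c, -, hc, h'⟩ | ⟨-, -, ⟨f⟩⟩ | ⟨-, -, ⟨f⟩⟩ | ⟨-, -, ⟨f⟩⟩ | ⟨w, K, k2, hK, h'⟩
  · have : ¬ p ∣ Nat.card H := fun h => by
      obtain ⟨⟨u, hu⟩, hu'⟩ := exists_prime_orderOf_dvd_card' p h
      rw [← orderOf_coe] at hu'
      obtain ⟨t, rfl⟩ := exists_smul_infty z
      have := pslIn_normal (F := F)
      have hM : ∀ g ∈ cj (H.map (pslInc F)) t⁻¹, g • (∞ : OnePoint F) = ∞ := by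
        rintro _ ⟨_, ⟨g, hg, rfl⟩, rfl⟩
        simp [mul_smul, mem_stab.1 (h' hg)]
      have hx : t⁻¹ * pslInc F u * t ∈ cj (H.map (pslInc F)) t⁻¹ := ⟨_, ⟨u, hu, rfl⟩, by simp⟩
      obtain ⟨c, hc0, e⟩ := exists_aff_one p (conj_pow_eq_one.2 (hu' ▸ pow_orderOf_eq_one u))
        (fun e => hp.out.one_lt.ne' (by
          rw [← pow_one (_ * t), conj_pow_eq_one, pow_one] at e
          simp [← hu', e])) (hM _ hx)
      exact not_quad_uni (two_ne_zero_of ((odd_card_iff p).2 (hp2 h))) (hQ.cj t⁻¹) hM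
        (by rwa [card_map_conj, hc, Nat.odd_iff]) hc0 (e ▸ hx)
    exact ⟨fun a ha b hb => comm_of_le_stab pslInc_injective p h' this ha hb, this⟩
  · obtain ⟨n, ⟨e⟩, -, h3⟩ := torN_card pslInc_injective p range_pslInc.ge hd hc
    refine ⟨fun a ha b hb => ?_, fun h => hp2 h ?_⟩
    · by_cases a1 : a * a = 1
      · simp [eq_one_of_odd (Nat.odd_iff.2 ho) ha a1]
      by_cases b1 : b * b = 1
      · simp [eq_one_of_odd (Nat.odd_iff.2 ho) hb b1]
      exact dih_comm e (h' hb) (h' ha) (h' ha) b1 a1 rfl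
    · have h4 := h.trans (card_dvd_of_le h')
      rw [card_of_dih e] at h4
      exact (Nat.prime_dvd_prime_iff_eq hp.out Nat.prime_two).1 ((coprime_of_tor
        (char_dvd_card (F := F) p) (h3.imp And.right And.right)).dvd_of_dvd_mul_right h4)
  · rw [Nat.card_congr f.toEquiv, card_alt4] at ho; omega
  · rw [Nat.card_congr f.toEquiv, card_sym4] at ho; omega
  · rw [Nat.card_congr f.toEquiv, card_alt5] at ho; omega
  exfalso
  obtain ⟨k, hk⟩ : ∃ k, Nat.card K = k + 1 := ⟨Nat.card K - 1, by omega⟩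
  have e : (k + 1) * ((k + 1) ^ 2 - 1) = k * (k + 1) * (k + 2) := by
    rw [show (k + 1) ^ 2 - 1 = k * (k + 2) from Nat.sub_eq_of_eq_add (by ring)]; ring
  rcases h' with h' | ⟨h3, h'⟩
  · rw [← hc, h', card_cj_subPGL, hk, e] at ho
    exact Nat.not_even_iff_odd.2 (Nat.odd_iff.2 ho) ((Nat.even_mul_succ_self k).mul_right _)
  · have h4 := card_cj_subPSL K w
    rw [Nat.odd_iff] at h3
    rw [← h', hc, ((gcd_cases (by omega)).resolve_right (by omega)).2, hk, e] at h4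
    obtain ⟨j, rfl⟩ : ∃ j, k = 2 * j := ⟨k / 2, by omega⟩
    have : Nat.card H = 2 * (j * (2 * j + 1) * (j + 1)) := by nlinarith
    omega

end Cfsg.Agent.H93.L2
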