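import Cfsg.Agent.H93.AbIdx2

/-!
# Fusion systems over `p`-groups with an extraspecial subgroup
-/

namespace Cfsg.Agent.H93

open Cfsg Cfsg.FusionSystem
open Cfsg.Agent.H91 hiding mem_opIn_of_chain
open scoped commutatorElement

variable {Ω : Type*} [Group Ω] {p : ℕ} {S : Subgroup Ω} {F : FusionSystem S}

theorem map_center_eq (S : Subgroup Ω) : (Subgroup.center S).map S.subtype = centralizerIn S S := by
  rw [← ucs_one, ucs, Subgroup.upperCentralSeries_one]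

theorem exs_center {Q : Subgroup Ω} (hQ : IsExtraspecial p Q) :
    Nat.card (centralizerIn Q Q) = p ∧ ⁅Q, Q⁆ = centralizerIn Q Q :=
  ⟨by rw [← map_center_eq, Subgroup.card_map_of_injective Q.subtype_injective, hQ.2],
    by rw [← map_center_eq, ← map_commutator_eq, hQ.1.2.2]⟩

theorem exists_zpowers_eq [hp : Fact p.Prime] {K : Subgroup Ω} (h : Nat.card K = p) :
    ∃ z, Subgroup.zpowers z = K ∧ z ^ p = 1 ∧ z ≠ 1 := by
  haveI : Finite K := Nat.finite_of_card_ne_zero (h ▸ hp.out.ne_zero)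
  haveI := isCyclic_of_prime_card h
  obtain ⟨z, hz⟩ := (Subgroup.isCyclic_iff_exists_zpowers_eq_top _).1 this
  refine ⟨z, hz, by rw [← h, ← hz, Nat.card_zpowers, pow_orderOf_eq_one], ?_⟩
  rintro rfl
  rw [← hz, Subgroup.zpowers_one_eq_bot, Subgroup.card_bot] at h
  exact hp.out.one_lt.ne h

/-- Decomposition along a subgroup of index `p`. -/
theorem dec_of_index [Finite S] [hp : Fact p.Prime] (hS : IsPGroup p S) {Q : Subgroup Ω}
    (hQ : Q ≤ S) (hi : (Q.subgroupOf S).index = p) {x : Ω} (hx : x ∈ S) (hxQ : x ∉ Q) {s : Ω}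
    (hs : s ∈ S) : ∃ a ∈ Q, ∃ k : ℤ, s = a * x ^ k := by
  haveI := H3.normal_of_index_eq hS hi
  have h1 := eq_of_card_eq_mul_prime (p := p) (H := Q) (L := Q ⊔ Subgroup.zpowers x) le_sup_left
    (sup_le hQ ((Subgroup.zpowers_le).2 hx))
    (by rw [← card_mul_relIndex hQ, Subgroup.relIndex, hi])
    fun e => hxQ (e (Subgroup.mem_sup_right (Subgroup.mem_zpowers x)))
  rw [← h1, sup_comm, mem_sup_iff_of_normalizes ((Subgroup.zpowers_le).2
    (mem_normalizer_of_conj_mem' (fun a ha => this.conj_mem (⟨a, hQ ha⟩ : S) ha ⟨x, hx⟩)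
      fun a ha => this.conj_mem' (⟨a, hQ ha⟩ : S) ha ⟨x, hx⟩))] at hs
  obtain ⟨_, ⟨k, rfl⟩, b, hb, rfl⟩ := hs
  exact ⟨_, this.conj_mem (⟨b, hQ hb⟩ : S) hb (⟨x, hx⟩ ^ k), k, by simp⟩

variable [Finite S] [hp : Fact p.Prime] (hS : IsPGroup p S) (hF : F.IsSaturated p)
include hS hF

theorem center_le_of_comm (hp2 : p ≠ 2) (hcore : F.core = ⊥) (hS1 : S ≠ ⊥) {z : Ω} (hz : z ∈ S)
    (hzc : ∀ x ∈ S, x * z = z * x) (hzp : z ^ p = 1)
    (hcomm : ∀ x ∈ S, ∀ y ∈ S, x⁻¹ * (y * x * y⁻¹) ∈ Subgroup.zpowers z) :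
    centralizerIn S S ≤ Subgroup.zpowers z := by
  have hnn : ¬ F.IsNormal S := fun h => hS1 (le_bot_iff.1 (hcore ▸ H91.le_core h))
  obtain ⟨R, h⟩ : ∃ R, Tv F p S R z := by
    by_contra hc
    exact hnn (normal_of_local' hS hF (stronglyClosed_top F) fun R hR hfn hrad =>
      hc ⟨R, stronglyClosed_top F, hR, hfn, hrad, hcomm, hz, hzc, hzp⟩)
  refine center_le_odd hS hF hp2 h (fun R h1 h2 h3 => ?_)
    (le_bot_iff.1 (hcore ▸ H91.le_core (stayCentral_normal hS hF)))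
  have h4 : ∀ t ∈ S, ∀ x ∈ R, t * x * t⁻¹ ∈ R := fun t ht x hx => by
    have := R.mul_mem hx ((Subgroup.zpowers_le).2 (center_le_of_centric h2 h.z_center).1
      (hcomm x (h1.le hx) t ht))
    rwa [mul_inv_cancel_left] at this
  exact ⟨stronglyClosed_top F, h1, isFullyNormalized_of_normal F h1.le fun t ht =>
    mem_normalizer_of_conj_mem' (h4 t ht) fun x hx => by simpa using h4 _ (S.inv_mem ht) x hx,
    inf_le_right.trans (preAut_le_of_centric_radical h2 h3), hcomm, hz, hzc, hzp⟩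

/-- If `g, g' ∈ N_S(E) \ E` and `α c_{g'} α⁻¹` stabilize a common chain then `α` is a product of
automorphisms extending to larger subgroups. -/
theorem mem_extAut_of_chain {E : Subgroup Ω} (hE : F.IsFullyNormalized E) {α : MulAut E}
    (hα : α ∈ F.autGroup E) {g g' : Ω} (hg : g ∈ normalizerIn S E) (hg' : g' ∈ normalizerIn S E)
    (hgE : g ∉ E) (hgE' : g' ∉ E) (c : ℕ → Subgroup Ω) (n : ℕ) (h0 : c 0 = ⊥)
    (hn : E ≤ c n) (mono : ∀ i < n, c i ≤ c (i + 1))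
    (s1 : ∀ i < n, ∀ x ∈ E, x ∈ c (i + 1) → x⁻¹ * (g * x * g⁻¹) ∈ c i)
    (s2 : ∀ i < n, ∀ x ∈ E, efn α x ∈ c (i + 1) →
      efn α (x⁻¹ * (g' * x * g'⁻¹)) ∈ c i) : α ∈ extAut F E := by
  obtain ⟨a, ha, e1, e2⟩ := exists_conj_of_chain hS hF hE (cjAut_mem_autGroup F hE.1 hg)
    (Subgroup.mul_mem _ (Subgroup.mul_mem _ hα (cjAut_mem_autGroup F hE.1 hg'))
      (Subgroup.inv_mem _ hα)) c n h0 hn mono (by
      rintro β (rfl | rfl) i hi x hx hx'
      · rw [efn_cjAut _ _ _ hx]; exact s1 i hi x hx hx'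
      · have h1 := efn_mem α⁻¹ hx
        have := s2 i hi _ h1 (by rwa [efn_efn_inv _ hx])
        rwa [(homOn_efn α).map_mul (E.inv_mem h1) (conj_mem_of_mem_normalizer hg'.2 h1),
          (homOn_efn α).map_inv h1, efn_efn_inv _ hx, ← efn_cjAut E _ hg'.2 h1,
          ← efn_mul _ _ h1, ← efn_mul _ _ hx] at this)
  have hR := sat_receptive' hS hF hE
  have h1 := mem_extAut_of_not_le hR ha fun h => hgE (h (mem_extSub_of_conj_mem hg e1))
  have h2 := mem_extAut_of_not_le hR (Subgroup.mul_mem _ ha hα) fun h => hgE'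
    (h (mem_extSub_of_conj_mem hg' (by
      rwa [show a * α * cjAut E g' hg'.2 * (a * α)⁻¹ = a * (α * cjAut E g' hg'.2 * α⁻¹) * a⁻¹ by
        group])))
  exact (Subgroup.mul_mem_cancel_left _ h1).1 h2

end Cfsg.Agent.H93
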