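import Cfsg.Agent.H93.AbIdx2

/-!
# Fusion systems over `p`-groups with an abelian subgroup of index `p`: the centre
-/

namespace Cfsg.Agent.H93

open Cfsg Cfsg.FusionSystem
open Cfsg.Agent.H91 hiding mem_opIn_of_chain
open scoped commutatorElement

variable {Ω : Type*} [Group Ω] {p : ℕ} {S : Subgroup Ω} {F : FusionSystem S}

theorem autGroup_normFS (F : FusionSystem S) {R : Subgroup Ω} (hR : R ≤ S) :
    (normFS F hR).autGroup R = F.autGroup R :=
  le_antisymm (autGroup_mono (H92.normFS_sub F hR) R) fun α hα => M.mem_autGroup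
    ((M_normFS hR).2 (((mem_autGroup_iff hR).1 hα).toNM le_rfl (im_efn α) le_rfl
      (le_normalizerIn hR)))

theorem efn_mem_derived (α : MulAut S) {x : Ω} (hx : x ∈ ⁅S, S⁆) : efn α x ∈ ⁅S, S⁆ := by
  rw [← map_commutator_eq] at hx ⊢
  exact efn_mem_map_of_characteristic _ α hx

variable [Finite S] [hp : Fact p.Prime] (hS : IsPGroup p S) (hF : F.IsSaturated p)
include hS hF

/-- A map between central subgroups extends to `S`. -/
theorem exists_aut_of_central {P U : Subgroup Ω} {f : Ω → Ω} (hf : M F P f) (hU : U ≤ P)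
    (h1 : U ≤ centralizerIn S S) (h2 : ∀ x ∈ U, f x ∈ centralizerIn S S) :
    ∃ φ ∈ F.autGroup S, ∀ x ∈ U, efn φ x = f x := by
  have hf' := hf.restrict hU
  have h3 : ∀ {V : Subgroup Ω}, V ≤ centralizerIn S S → S ≤ centralizerIn S V := fun hV s hs =>
    mem_centralizerIn.2 ⟨hs, fun x hx => ((mem_centralizerIn.1 (hV hx)).2 s hs).symm⟩
  obtain ⟨g, hg, e, -⟩ := hf'.extend_centralizer rfl (sat_receptive' hS hF
    (isFullyNormalized_of_normal F hf'.im_le fun s hs =>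
      (centralizerIn_le_normalizerIn _ _ (h3 (im_le_iff.2 h2) hs)).2))
  have hg' := hg.restrict (le_sup_of_le_right (h3 h1))
  obtain ⟨φ, hφ, e'⟩ := hg'.exists_aut (hg'.im_eq_self fun x hx => hg'.mem hx)
  exact ⟨φ, hφ, fun x hx => by rw [e' x (hf'.le hx), e x hx]⟩

/-- Two automorphisms inverting `z` and trivial on `Z(S) / ⟨z⟩` agree on `Z(S)`. -/
theorem agree_of_invert {φ ψ : MulAut S} (hφ : φ ∈ F.autGroup S) (hψ : ψ ∈ F.autGroup S) {z : Ω}
    (hz : z ∈ S) (e1 : efn φ z = z⁻¹) (e2 : efn ψ z = z⁻¹)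
    (f1 : ∀ c ∈ centralizerIn S S, c⁻¹ * efn φ c ∈ Subgroup.zpowers z)
    (f2 : ∀ c ∈ centralizerIn S S, c⁻¹ * efn ψ c ∈ Subgroup.zpowers z) {c : Ω}
    (hc : c ∈ centralizerIn S S) : efn φ (efn ψ c) = c := by
  have h4 : efn (φ * ψ) z = z := by
    rw [efn_mul _ _ hz, e2, (homOn_efn φ).map_inv hz, e1, inv_inv]
  rw [← efn_mul _ _ hc.1]
  refine fix_of_center hS hF (Subgroup.mul_mem _ hφ hψ) hc ?_
  have h5 := Subgroup.mul_mem _ (f2 c hc) (f1 _ (efn_mem_center ψ hc))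
  rw [mul_assoc, mul_inv_cancel_left, ← efn_mul _ _ hc.1] at h5
  obtain ⟨k, hk⟩ := h5
  simp only at hk
  rw [← hk, (homOn_efn _).map_zpow hz, h4]

omit hS

namespace AbI

variable {A R : Subgroup Ω} (h : AbI p S A)
include h

omit hF in
theorem center_normalizer (hc : F.IsCentric R) {x : Ω} (hx : x ∈ R) (hxA : x ∉ A)
    (hZ : R ⊓ A = centralizerIn S S) (hlt : R < S) :
    centralizerIn (normalizerIn S R) (normalizerIn S R) = centralizerIn S S := by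
  refine le_antisymm (fun y hy => ?_) fun y hy => mem_centralizerIn.2
    ⟨H92.center_le_normalizerIn hc.1 hy, fun s hs => (mem_centralizerIn.1 hy).2 s hs.1⟩
  obtain ⟨a, ha, haN, haR⟩ := h.exists_norm hlt hx hxA
  by_cases hyA : y ∈ A
  · exact h.mem_center (hc.1 hx) hxA hyA ((mem_centralizerIn.1 hy).2 x (le_normalizerIn hc.1 hx))
  · exact absurd (hZ.ge (h.mem_center hy.1.1 hyA ha ((mem_centralizerIn.1 hy).2 a haN).symm)).1 haR

omit hF in
theorem tv_normalizer (hc : F.IsCentric R) (hr : F.IsRadical p R)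
    (hlt : R < S) {x : Ω} (hx : x ∈ R) (hxA : x ∉ A) (hZ : R ⊓ A = centralizerIn S S) {z : Ω}
    (hz : Subgroup.zpowers z = centralizerIn S S ⊓ ⁅S, S⁆) (hzp : z ^ p = 1) :
    Tv (normFS F hc.1) p (normalizerIn S R) R z := by
  haveI := finite_normalizerIn (S := S) R
  have hzZ := (hz.le (Subgroup.mem_zpowers z)).1
  have hxS := hc.1 hx
  have hdl : ∀ a ∈ A, a ∈ normalizerIn S R → dl x a ∈ Subgroup.zpowers z := fun a ha haN => by
    rw [hz]
    refine ⟨hZ.le ⟨?_, h.dl_mem hxS ha⟩, h.derived_eq hxS hxA ▸ mem_im_of_mem _ ha⟩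
    rw [show dl x a = a⁻¹ * x * a * x⁻¹ by simp only [dl]; group]
    exact R.mul_mem (conj_inv_mem_of_mem_normalizer haN.2 hx) (R.inv_mem hx)
  have hdl' : ∀ a ∈ A, a ∈ normalizerIn S R → ∀ s ∈ S, dl s a ∈ Subgroup.zpowers z :=
    fun a ha haN s hs => h.dl_mem_of hxS hxA ha (fun k => hdl _ (h.conj _ (S.pow_mem hxS k) a ha)
      (Subgroup.mul_mem _ (Subgroup.mul_mem _ (Subgroup.pow_mem _ (le_normalizerIn hc.1 hx) k) haN)
        (Subgroup.inv_mem _ (Subgroup.pow_mem _ (le_normalizerIn hc.1 hx) k)))) hs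
  have hZc : ∀ {c s}, c ∈ Subgroup.zpowers z → s ∈ S → s * c * s⁻¹ = c := fun hc hs => by
    rw [(mem_centralizerIn.1 (hz.le hc).1).2 _ hs, mul_inv_cancel_right]
  refine ⟨stronglyClosed_top _, lt_normalizerIn h.pg hlt, isFullyNormalized_of_normal _
    (le_normalizerIn hc.1) fun g hg => hg.2, fun g hg => ?_, fun s hs t ht => ?_,
    H92.center_le_normalizerIn hc.1 hzZ, fun s hs => (mem_centralizerIn.1 hzZ).2 s hs.1, hzp⟩
  · obtain ⟨h1, h2⟩ := mem_preAut.1 hg.2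
    rw [autGroup_normFS] at h2
    exact mem_of_cjAut_mem_opIn hc hr hg.1 h2
  · obtain ⟨a, ha, k, rfl⟩ := h.dec hxS hxA hs.1
    obtain ⟨b, hb, l, rfl⟩ := h.dec hxS hxA ht.1
    have hxN : ∀ k : ℕ, x ^ k ∈ normalizerIn S R := fun k =>
      Subgroup.pow_mem _ (le_normalizerIn hc.1 hx) k
    have h1 := hdl' a ha ((Subgroup.mul_mem_cancel_right _ (hxN k)).1 hs) _ ht.1
    have h2 := hdl' b hb ((Subgroup.mul_mem_cancel_right _ (hxN l)).1 ht) _ (hxN k).1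
    have h3 := Subgroup.mul_mem _ h1 (Subgroup.inv_mem _ h2)
    rw [← hZc h1 (S.inv_mem (hxN k).1), ← hZc h2 (S.mul_mem (S.inv_mem (hxN k).1) (h.le hb))] at h3
    convert h3 using 1
    simp only [dl]
    group

/-- The local analysis at an abelian essential subgroup `Z(S) ⟨x⟩`. -/
theorem exists_invert (hfn : F.IsFullyNormalized R) (hc : F.IsCentric R) (hr : F.IsRadical p R)
    (hlt : R < S) {x : Ω} (hx : x ∈ R) (hxA : x ∉ A) (hZ : R ⊓ A = centralizerIn S S) {z : Ω}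
    (hz : Subgroup.zpowers z = centralizerIn S S ⊓ ⁅S, S⁆) (hzp : z ^ p = 1) :
    ∃ φ ∈ F.autGroup S, efn φ z = z⁻¹ ∧ ∀ c ∈ centralizerIn S S, ∃ d ∈ centralizerIn S S,
      (∀ β ∈ F.autGroup R, efn β d ∈ centralizerIn S S) ∧ efn φ d = d ∧ ∃ j : ℤ, c = d * z ^ j := by
  haveI := finite_normalizerIn (S := S) R
  have t := h.tv_normalizer hc hr hlt hx hxA hZ hz hzp
  have hT := isPGroup_of_le h.pg (normalizerIn_le S R)
  have hE := normFS_saturated h.pg hF hfn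
  have e := h.center_normalizer hc hx hxA hZ hlt
  obtain ⟨α, hα, hw⟩ := t.exists_move hT
  obtain ⟨-, -, f, -, -, -, hf, e1, -, e2, -⟩ := t.struct hT hE hα hw
  obtain ⟨φ', hφ', e'⟩ := hf.exists_aut (hf.im_eq_self fun x hx => hf.mem hx)
  obtain ⟨φ, hφ, e''⟩ := exists_aut_of_central h.pg hF (hf.of_sub (H92.normFS_sub F hc.1))
    (H92.center_le_normalizerIn hc.1) le_rfl fun c hc' => by
      rw [← e] at hc' ⊢
      rw [← e' c hc'.1]
      exact efn_mem_center φ' hc'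
  refine ⟨φ, hφ, by rw [e'' z (e.le t.z_center), e1], fun c hc' => ?_⟩
  obtain ⟨d, hd, hd', j⟩ := t.center_dec hT hE hα hw (e.ge hc')
  refine ⟨d, e.le hd, fun β hβ => e.le (hd' β ((autGroup_normFS F hc.1).ge hβ)), ?_, j⟩
  rw [e'' d (e.le hd), e2 d hd (hd' _ (Subgroup.inv_mem _ hα))]

theorem center_le_of_core (hp2 : p ≠ 2) (hcore : F.core = ⊥) (hA : ¬ F.IsEssential p A) :
    (∃ x ∈ S, x ∉ A ∧ F.IsEssential p (centralizerIn S S ⊔ Subgroup.zpowers x)) ∧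
    Nat.card (centralizerIn S S) = p ∧ centralizerIn S S ≤ ⁅S, S⁆ := by
  have cases : ∀ R, F.IsEssential p R → ∃ x ∈ R, x ∉ A ∧
      Nat.card ↥(centralizerIn S S ⊓ ⁅S, S⁆) = p ∧
      (R ⊓ A = centralizerIn S S ∨ centralizerIn R R = centralizerIn S S) := fun R hR => by
    obtain ⟨x, hx, hxA, h0, h1⟩ := h.cr_cases hF hR.2.1 hR.1 (radical_of_essential h.pg hR)
      (essential_lt h.pg hF hR) (fun e => hA (e ▸ hR))
    exact ⟨x, hx, hxA, h0, h1.imp id fun h => h.2.2⟩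
  have hZS := centralizerIn_le S S
  haveI := finite_of_le hZS
  have nrm : ∀ U, U ≤ centralizerIn S S → (∀ φ ∈ F.autGroup S, ∀ c ∈ U, efn φ c ∈ U) →
      (∀ R, F.IsEssential p R → ∀ β ∈ F.autGroup R, ∀ c ∈ U, efn β c ∈ centralizerIn S S) →
      U = ⊥ := fun U hU h1 h2 => by
    haveI := finite_of_le hU
    refine eq_bot_iff.2 (hcore ▸ le_core (normal_of_essential h.pg hF (hU.trans hZS) ?_))
    rintro R (rfl | hR)
    · exact ⟨hU.trans hZS, fun α hα => ((homOn_efn α).mono (hU.trans hZS)).im_eq_self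
        (((mem_autGroup_iff le_rfl).1 hα).restrict (hU.trans hZS)).injOn (h1 α hα)⟩
    · have hUR : U ≤ R := fun c hc => (center_le_of_centric hR.1 (hU hc)).1
      refine ⟨hUR, fun α hα => ?_⟩
      have hM := (mem_autGroup_iff hR.1.1).1 hα
      obtain ⟨φ, hφ, e⟩ := exists_aut_of_central h.pg hF hM hUR hU (h2 R hR α hα)
      exact (hM.restrict hUR).homOn.im_eq_self (hM.restrict hUR).injOn
        fun c hc => e c hc ▸ h1 φ hφ c hc
  obtain ⟨R₁, hR₁, x₁, hx₁, hxA₁, h0, hZ₁⟩ : ∃ R, F.IsEssential p R ∧ ∃ x ∈ R, x ∉ A ∧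
      Nat.card ↥(centralizerIn S S ⊓ ⁅S, S⁆) = p ∧ R ⊓ A = centralizerIn S S := by
    by_contra hcon
    have h1 := nrm _ le_rfl (fun φ _ c hc => efn_mem_center φ hc) fun R hR β _ c hc => by
      obtain ⟨x, hx, hxA, h0, h1 | h1⟩ := cases R hR
      · exact absurd ⟨R, hR, x, hx, hxA, h0, h1⟩ hcon
      · exact h1.le (efn_mem_center β (h1.ge hc))
    refine h.not_ucs_two_le fun y hy => mem_centralizerIn.2 ⟨ucs_le S 2 hy, fun s hs => ?_⟩
    have h2 := (mem_ucs_two.1 hy).2 s hs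
    rw [h1, Subgroup.mem_bot, commutatorElement_eq_one_iff_mul_comm] at h2
    exact h2.symm
  refine ⟨⟨x₁, hR₁.1.1 hx₁, hxA₁, by rwa [← hZ₁, ← h.eq_inf_sup hR₁.1.1 hx₁ hxA₁]⟩, ?_⟩
  haveI := finite_of_le (inf_le_left : centralizerIn S S ⊓ ⁅S, S⁆ ≤ _)
  obtain ⟨z, hz, hzp⟩ : ∃ z, Subgroup.zpowers z = centralizerIn S S ⊓ ⁅S, S⁆ ∧ z ^ p = 1 := by
    haveI := isCyclic_of_prime_card h0
    obtain ⟨z, hz⟩ := (Subgroup.isCyclic_iff_exists_zpowers_eq_top _).1 this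
    refine ⟨z, hz, ?_⟩
    rw [← h0, ← hz, Nat.card_zpowers, pow_orderOf_eq_one]
  have hz0 := hz.le (Subgroup.mem_zpowers z)
  have hzS := hZS hz0.1
  have inv : ∀ {φ : MulAut S} {R : Subgroup Ω}, efn φ z = z⁻¹ →
      (∀ c ∈ centralizerIn S S, ∃ d ∈ centralizerIn S S,
      (∀ β ∈ F.autGroup R, efn β d ∈ centralizerIn S S) ∧ efn φ d = d ∧ ∃ j : ℤ, c = d * z ^ j) →
      ∀ c ∈ centralizerIn S S, c⁻¹ * efn φ c ∈ Subgroup.zpowers z := fun {φ R} e1 e2 c hc => by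
    obtain ⟨d, hd, -, e3, j, rfl⟩ := e2 c hc
    rw [(homOn_efn φ).map_mul hd.1 (S.zpow_mem hzS j), e3, (homOn_efn φ).map_zpow hzS, e1]
    exact ⟨-j + -j, by simp only; group⟩
  obtain ⟨φ₁, hφ₁, e₁, d₁⟩ := h.exists_invert hF hR₁.2.1 hR₁.1 (radical_of_essential h.pg hR₁)
    (essential_lt h.pg hF hR₁) hx₁ hxA₁ hZ₁ hz hzp
  let U : Subgroup Ω :=
    { carrier := {c | c ∈ centralizerIn S S ∧ efn φ₁ c = c}
      one_mem' := ⟨Subgroup.one_mem _, (homOn_efn φ₁).map_one⟩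
      mul_mem' := fun {a b} ha hb => ⟨Subgroup.mul_mem _ ha.1 hb.1, by
        rw [(homOn_efn φ₁).map_mul ha.1.1 hb.1.1, ha.2, hb.2]⟩
      inv_mem' := fun {a} ha => ⟨Subgroup.inv_mem _ ha.1, by
        rw [(homOn_efn φ₁).map_inv ha.1.1, ha.2]⟩ }
  have hzm : ∀ (ψ : MulAut S) {y}, y ∈ Subgroup.zpowers z → efn ψ y ∈ Subgroup.zpowers z :=
    fun ψ y hy => hz.ge ⟨efn_mem_center ψ (hz.le hy).1, efn_mem_derived ψ (hz.le hy).2⟩
  have hU := nrm U (fun c hc => hc.1) (fun ψ hψ c hc => ⟨efn_mem_center ψ hc.1, by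
      have h1 := agree_of_invert h.pg hF (φ := ψ⁻¹ * φ₁ * ψ)
        (Subgroup.mul_mem _ (Subgroup.mul_mem _ (Subgroup.inv_mem _ hψ) hφ₁) hψ) hφ₁ hzS (by
          obtain ⟨k, hk⟩ := hzm ψ (Subgroup.mem_zpowers z)
          simp only at hk
          rw [efn_mul _ _ hzS, efn_mul _ _ (efn_mem _ hzS), ← hk, (homOn_efn φ₁).map_zpow hzS, e₁,
            inv_zpow, hk, (homOn_efn _).map_inv (efn_mem _ hzS), efn_inv_efn _ hzS]) e₁
        (fun c hc => by
          have h2 := hzm ψ⁻¹ (inv e₁ d₁ _ (efn_mem_center ψ hc))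
          rwa [(homOn_efn _).map_mul (S.inv_mem (efn_mem _ hc.1)) (efn_mem _ (efn_mem _ hc.1)),
            (homOn_efn _).map_inv (efn_mem _ hc.1), efn_inv_efn _ hc.1,
            ← efn_mul _ _ (efn_mem _ hc.1), ← efn_mul _ _ hc.1] at h2) (inv e₁ d₁) hc.1
      have h2 := congrArg (efn ψ) h1
      rwa [hc.2, efn_mul _ _ hc.1.1, efn_mul _ _ (efn_mem _ hc.1.1),
        efn_efn_inv _ (efn_mem _ (efn_mem _ hc.1.1))] at h2⟩) fun R hR β hβ c hc => by
    obtain ⟨x, hx, hxA, -, h1 | h1⟩ := cases R hR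
    · obtain ⟨φ, hφ, e, dd⟩ := h.exists_invert hF hR.2.1 hR.1 (radical_of_essential h.pg hR)
        (essential_lt h.pg hF hR) hx hxA h1 hz hzp
      have h2 := agree_of_invert h.pg hF hφ hφ₁ hzS e e₁ (inv e dd) (inv e₁ d₁) hc.1
      obtain ⟨d, hd, hd', e3, j, rfl⟩ := dd c hc.1
      rw [hc.2, (homOn_efn φ).map_mul hd.1 (S.zpow_mem hzS j), e3, (homOn_efn φ).map_zpow hzS, e,
        mul_right_inj, inv_zpow, inv_eq_iff_mul_eq_one, ← pow_two] at h2
      have h7 := pow_gcd_eq_one.2 ⟨h2, show (z ^ j) ^ p = 1 by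
        rw [← zpow_natCast, ← zpow_mul, mul_comm, zpow_mul, zpow_natCast, hzp, one_zpow]⟩
      rw [Nat.coprime_two_left.2 (hp.out.odd_of_ne_two hp2), pow_one] at h7
      rw [h7, mul_one]
      exact hd' β hβ
    · exact h1.le (efn_mem_center β (h1.ge hc.1))
  have key : centralizerIn S S ≤ ⁅S, S⁆ := fun c hc => by
    obtain ⟨d, hd, -, e3, j, rfl⟩ := d₁ c hc
    have : d ∈ U := ⟨hd, e3⟩
    rw [hU, Subgroup.mem_bot] at this
    rw [this, one_mul]
    exact Subgroup.zpow_mem _ hz0.2 j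
  exact ⟨by rwa [inf_eq_left.2 key] at h0, key⟩

end AbI

end Cfsg.Agent.H93
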