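import Cfsg.Agent.H93.GenES
import Cfsg.Agent.H93.Agemo
import Cfsg.Agent.H93.HypFactor
import Cfsg.Agent.H91.Hyp
import Cfsg.Agent.S3807

/-!
# Fusion systems over `p`-groups with derived group of order `p`
-/

namespace Cfsg.Agent.H93

open Cfsg Cfsg.FusionSystem
open Cfsg.Agent.H91 hiding mem_opIn_of_chain

theorem card_commutator_of_index_center {G : Type*} [Group G] [Finite G] {p : ℕ} [hp : Fact p.Prime]
    (hG : IsPGroup p G) (hna : ¬ IsMulCommutative G) (hZ : (Subgroup.center G).index ≤ p ^ 2) :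
    Nat.card (commutator G) = p := by
  obtain ⟨a, ha⟩ : ∃ a, a ∉ Subgroup.center G := by
    by_contra hc
    push Not at hc
    exact hna ⟨⟨fun a b => Subgroup.mem_center_iff.1 (hc b) a⟩⟩
  have hA : IsMulCommutative ↥(Subgroup.center G ⊔ Subgroup.zpowers a) :=
    H23.isMulCommutative_sup inferInstance inferInstance (Subgroup.center_le_centralizer _)
  have h1 : (Subgroup.center G ⊔ Subgroup.zpowers a).index = p := by
    obtain ⟨k, hk⟩ := hG.index (Subgroup.center G ⊔ Subgroup.zpowers a)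
    have h2 : k ≠ 0 := by
      rintro rfl
      rw [pow_zero, Subgroup.index_eq_one] at hk
      rw [hk] at hA
      exact hna ⟨⟨fun a b => congrArg Subtype.val (hA.is_comm.comm (⟨a, trivial⟩ : (⊤ : Subgroup G))
        ⟨b, trivial⟩)⟩⟩
    have h3 : (Subgroup.center G ⊔ Subgroup.zpowers a).index < (Subgroup.center G).index :=
      Subgroup.index_strictAnti (lt_of_le_of_ne le_sup_left fun e =>
        ha (e ▸ Subgroup.mem_sup_right (Subgroup.mem_zpowers a)))
    have h4 := (Nat.pow_lt_pow_iff_right hp.out.one_lt).1 (hk ▸ h3.trans_le hZ)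
    rw [hk, show k = 1 by omega, pow_one]
  obtain ⟨h2, h3 | h3⟩ := S3807.result p hG hna _ hA h1
  · exact h3.1
  · rw [h2, pow_two] at hZ
    have h4 := Nat.le_of_mul_le_mul_left hZ hp.out.pos
    have := hp.out.one_lt
    nlinarith [h3.1]

variable {Ω : Type*} [Group Ω] {S : Subgroup Ω} {F : FusionSystem S} {p : ℕ}

theorem predData_focal (F : FusionSystem S) {K : Subgroup Ω}
    (hK : ∀ x ∈ S, ∀ g ∈ S, x⁻¹ * (g * x * g⁻¹) ∈ K) :
    PredData S fun P f => M F P f ∧ ∀ x ∈ P, x⁻¹ * f x ∈ K :=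
  PredData.of_sub F (fun h => h.1) (fun h => h.1.le) (fun h _ hx => h.1.mem hx)
    (fun h e => ⟨h.1.congr e, fun x hx => e x hx ▸ h.2 x hx⟩)
    (fun hP hg => ⟨M.conj F hP hg, fun x hx => hK x (hP hx) _ hg⟩)
    (fun hg hf hm => ⟨hg.1.comp hf.1 hm, fun x hx => by
      have := K.mul_mem (hf.2 x hx) (hg.2 _ (hm x hx))
      rwa [mul_assoc, mul_inv_cancel_left] at this⟩)
    fun hf hg e => ⟨hg, fun y hy => by
      obtain ⟨x, hx, rfl⟩ := (hf.1.mem_im le_rfl).1 hy
      have := K.inv_mem (hf.2 x hx)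
      rw [mul_inv_rev, inv_inv] at this
      rwa [e x hx]⟩

variable [Finite S] [hp : Fact p.Prime] (hS : IsPGroup p S) (hF : F.IsSaturated p)
include hS hF

/-- The focal subgroup is controlled by the `p'`-automorphisms of `S` and the essential
subgroups. -/
theorem focal_le_of_essential {K : Subgroup Ω} (hK : ∀ x ∈ S, ∀ g ∈ S, x⁻¹ * (g * x * g⁻¹) ∈ K)
    (h : ∀ P, (P = S ∨ F.IsEssential p P) → ∀ α ∈ F.autGroup P, (orderOf α).Coprime p →
      ∀ x ∈ P, x⁻¹ * efn α x ∈ K) : F.focalSubgroup ≤ K := by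
  have := sub_of_coprime hS hF (D := (predData_focal F hK).fs) le_rfl fun P hP α hα hc =>
    (predData_focal F hK).M_iff.2 ⟨(mem_autGroup_iff (by
      rcases hP with rfl | hP
      · exact le_rfl
      · exact (essential_lt hS hF hP).le)).1 hα, h P hP α hα hc⟩
  exact focal_le_iff.2 fun P f hf => ((predData_focal F hK).M_iff.1 (hf.of_sub this)).2

/-- A `p`-element of `Aut_F(S)` is inner. -/
theorem mem_Inn_of_pElt {φ : MulAut S} (hφ : φ ∈ F.autGroup S) (h : ∃ v, φ ^ p ^ v = 1) :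
    φ ∈ Inn S := by
  haveI := finite_autGroup F (le_refl S)
  obtain ⟨a, -, e⟩ := (sat_sylIn hS hF (isFullyNormalized_top F)).exists_conj_mem
    (isPGroup_zpowers_of_pow h) ((Subgroup.zpowers_le).2 hφ)
  have h1 := e φ (Subgroup.mem_zpowers φ)
  rw [autInducedBy_self] at h1
  have := (Cfsg.innNormal (G := S)).conj_mem _ h1 a⁻¹
  rwa [show a⁻¹ * (a * φ * a⁻¹) * a⁻¹⁻¹ = φ by group] at this

/-- An automorphism in `Aut_F(S)` moving a central element by a fixed element fixes it. -/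
theorem fix_of_center {φ : MulAut S} (hφ : φ ∈ F.autGroup S) {c : Ω} (hc : c ∈ centralizerIn S S)
    (h : efn φ (c⁻¹ * efn φ c) = c⁻¹ * efn φ c) : efn φ c = c := by
  haveI := finite_mulAut (le_refl S)
  obtain ⟨k, hk, hk'⟩ := exists_pPart p φ
  obtain ⟨g, hg, e⟩ := mem_Inn_iff.1 (mem_Inn_of_pElt hS hF (Subgroup.pow_mem _ hφ k) hk)
  have h1 := efn_pow_of_fixed φ hc.1 h k
  rw [efn_of_mem _ hc.1, e, (mem_centralizerIn.1 hc).2 g hg, mul_inv_cancel_right, left_eq_mul]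
    at h1
  have h2 := efn_pow_of_fixed φ hc.1 h (orderOf φ)
  rw [pow_orderOf_eq_one, efn_one hc.1, left_eq_mul] at h2
  obtain ⟨v, hv⟩ := hS ⟨_, S.mul_mem (S.inv_mem hc.1) (efn_mem φ hc.1)⟩
  rw [hk' _ ⟨v, congrArg Subtype.val hv⟩ h2, inv_mul_eq_one] at h1
  exact h1.symm

namespace Tv

section general

variable {T R : Subgroup Ω} {z : Ω} (h : Tv F p T R z)
include h

theorem mem_or {α β : MulAut R} (hα : α ∈ F.autGroup R) (hw : efn α z ∉ Subgroup.zpowers z)
    (hβ : β ∈ F.autGroup R) : efn β z ∈ Subgroup.zpowers z ∨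
      ∃ s, ∃ hs : s ∈ T, efn (β * cjAut R s (h.norm hs) * α) z ∈ Subgroup.zpowers z := by
  refine or_iff_not_imp_left.2 fun hb => ?_
  obtain ⟨t, ht, htR, e⟩ := h.exists_norm hS hF hα hw
  have hwR := efn_mem α h.zR
  have ha := efn_mem β hwR
  have hbR := efn_mem β h.zR
  have hy := h.comm _ (h.le hbR) t ht
  obtain ⟨k, hk⟩ := (Subgroup.zpowers_le).2 (h.gen hy fun e' =>
    h.not_comm hS hF hβ hb ht htR (inv_mul_eq_one.1 e').symm) (h.comm _ (h.le ha) t ht)
  simp only at hk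
  refine ⟨t ^ (-k), T.zpow_mem ht _, by_contra fun hc => h.not_comm hS hF
    (Subgroup.mul_mem _ (Subgroup.mul_mem _ hβ (h.cj_mem (T.zpow_mem ht _))) hα) hc ht htR ?_⟩
  have h1 := h.conj_pow ht (h.le hwR) (-k)
  rw [e, inv_mul_cancel_left, inv_mul_eq_iff_eq_mul] at h1
  rw [efn_mul _ _ h.zR, efn_mul _ _ hwR, efn_cjAut _ _ _ hwR, h1,
    (homOn_efn β).map_mul hwR (R.zpow_mem h.zR _), (homOn_efn β).map_zpow h.zR]
  set a := efn β (efn α z)
  set b := efn β z
  set y := b⁻¹ * (t * b * t⁻¹) with hy'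
  have h2 : t * b * t⁻¹ = b * y := by rw [hy', mul_inv_cancel_left]
  have h3 : t * a * t⁻¹ = a * y ^ k := by rw [hk, mul_inv_cancel_left]
  have h4 : Commute b y := mul_inv_eq_iff_eq_mul.1 (h.conj_zpow (h.le hbR) hy)
  calc t * (a * b ^ (-k)) * t⁻¹ = t * a * t⁻¹ * (t * b * t⁻¹) ^ (-k) := by
        rw [_root_.conj_zpow]; group
    _ = a * b ^ (-k) := by
      rw [h2, h3, h4.mul_zpow, (h4.zpow_zpow (-k) (-k)).eq]; group

theorem orbit_mem {α β : MulAut R} (hα : α ∈ F.autGroup R) (hw : efn α z ∉ Subgroup.zpowers z)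
    (hβ : β ∈ F.autGroup R) :
    efn β z ∈ Subgroup.zpowers (efn α z) ⊔ Subgroup.zpowers z := by
  rcases h.mem_or hS hF hα hw (Subgroup.inv_mem _ hβ) with h1 | ⟨s, hs, h1⟩
  · refine Subgroup.mem_sup_right (by_contra fun hc => h.inv_move hS hc h1)
  · have hwR := efn_mem α h.zR
    rw [efn_mul _ _ h.zR, efn_mul _ _ hwR, efn_cjAut _ _ _ hwR] at h1
    have h2 := h.conj_mem hs hwR
    obtain ⟨k, hk⟩ := h.gen h1 fun e => h.z_ne_one hS (by
      have h3 := congrArg (efn β) e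
      rw [efn_efn_inv _ h2, (homOn_efn β).map_one, mul_inv_eq_one, mul_eq_left] at h3
      rw [← efn_inv_efn α h.zR, h3, (homOn_efn _).map_one])
    simp only at hk
    have h4 := congrArg (efn β) hk
    rw [(homOn_efn β).map_zpow (efn_mem _ h2), efn_efn_inv _ h2] at h4
    rw [← h4]
    refine Subgroup.zpow_mem _ ?_ k
    have := Subgroup.mul_mem (Subgroup.zpowers (efn α z) ⊔ Subgroup.zpowers z)
      (Subgroup.mem_sup_left (Subgroup.mem_zpowers _))
      (Subgroup.mem_sup_right (h.comm _ (h.le hwR) s hs))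
    rwa [mul_inv_cancel_left] at this

/-- `R` is a maximal subgroup of `T`. -/
theorem eq_of_le {R' : Subgroup Ω} (hR : R ≤ R') (hR' : R' < T) : R = R' := by
  refine le_antisymm hR fun t ht => by_contra fun htR => hR'.2 fun s hs => ?_
  obtain ⟨k, hk⟩ := h.exists_mul hS hF (hR'.le ht) htR hs
  have := R'.mul_mem (R'.zpow_mem ht k) (hR hk)
  rwa [mul_inv_cancel_left] at this

end general

variable {R : Subgroup Ω} {z : Ω} (h : Tv F p S R z)
include h

theorem fix_norm {δ : MulAut R} (hδ : δ ∈ F.autGroup R) (hz : efn δ z ∈ Subgroup.zpowers z)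
    {c : Ω} (hc : c ∈ centralizerIn S S) : efn δ c ∈ centralizerIn S S := by
  haveI := finite_of_le h.RS
  obtain ⟨t, ht, htR⟩ := SetLike.exists_of_lt h.lt
  let N : Subgroup (MulAut R) :=
    { carrier := {β | β ∈ F.autGroup R ∧ efn β z ∈ Subgroup.zpowers z}
      one_mem' := ⟨Subgroup.one_mem _, by rw [efn_one h.zR]; exact Subgroup.mem_zpowers z⟩
      mul_mem' := fun {a b} ha hb => ⟨Subgroup.mul_mem _ ha.1 hb.1, by
        obtain ⟨k, hk⟩ := hb.2
        simp only at hk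
        rw [efn_mul _ _ h.zR, ← hk, (homOn_efn a).map_zpow h.zR]
        exact Subgroup.zpow_mem _ ha.2 k⟩
      inv_mem' := fun {a} ha => ⟨Subgroup.inv_mem _ ha.1, by_contra fun hc =>
        h.inv_move hS hc (by rw [inv_inv]; exact ha.2)⟩ }
  have hcj : ∀ {s} (hs : s ∈ S), cjAut R s (h.norm hs) ∈ N := fun hs => ⟨h.cj_mem hs, by
    rw [efn_cjAut _ _ _ h.zR, h.conj_zpow hs (Subgroup.mem_zpowers z)]
    exact Subgroup.mem_zpowers z⟩
  have h1 : cjAut R t (h.norm ht) ∈ opIn p N := by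
    refine mem_opIn_of_chain (isPGroup_of_le hS h.RS)
      (fun i => if i = 0 then ⊥ else if i = 1 then Subgroup.zpowers z else R) 2 (by simp) (by simp)
      ?_ (hcj ht) ?_
    · intro α hα i _ x hx hx'
      split_ifs at hx' ⊢
      · rw [Subgroup.mem_bot.1 hx', (homOn_efn α).map_one]; exact Subgroup.one_mem _
      · obtain ⟨k, rfl⟩ := hx'
        simp only
        rw [(homOn_efn α).map_zpow h.zR]
        exact Subgroup.zpow_mem _ hα.2 k
      · exact efn_mem α hx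
    · intro i hi x hx hx'
      rw [efn_cjAut _ _ _ hx]
      obtain rfl | rfl : i = 0 ∨ i = 1 := by omega
      · simp only [zero_add, one_ne_zero, if_false, if_true] at hx' ⊢
        rw [h.conj_zpow ht hx', inv_mul_cancel]; exact Subgroup.one_mem _
      · simp only [one_ne_zero, if_false, if_true]
        exact h.comm x (h.le hx) t ht
  have h2 : SylIn p (autInducedBy S R) N := (sat_sylIn hS hF h.fn).of_le (fun β hβ => by
    obtain ⟨s, hs, e⟩ := mem_autInducedBy_iff'.1 hβ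
    rw [show β = cjAut R s (h.norm hs.1) from mulAut_ext_efn fun x hx => by
      rw [e x hx, efn_cjAut _ _ _ hx]]
    exact hcj hs.1) fun β hβ => hβ.1
  obtain ⟨s, hs, e⟩ := mem_autInducedBy_iff'.1
    (h2.opIn_le (conj_mem_opIn (N.inv_mem (show δ ∈ N from ⟨hδ, hz⟩)) h1))
  have hcR := h.center_le hc
  have h3 := congrArg (efn δ) (e c hcR)
  rw [inv_inv, efn_mul _ _ hcR, efn_mul _ _ (efn_mem _ hcR), efn_efn_inv _ (efn_mem _ (efn_mem _ hcR)),
    efn_cjAut _ _ _ (efn_mem _ hcR), (mem_centralizerIn.1 hc).2 s hs.1, mul_inv_cancel_right] at h3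
  exact h.mem_center hS hF ht htR (efn_mem _ hcR) h3

theorem center_inv {α β : MulAut R} (hα : α ∈ F.autGroup R) (hw : efn α z ∉ Subgroup.zpowers z)
    (hβ : β ∈ F.autGroup R) {c : Ω} (hc : c ∈ centralizerIn S S)
    (hc' : efn α⁻¹ c ∈ centralizerIn S S) : efn β c ∈ centralizerIn S S := by
  rcases h.mem_or hS hF hα hw hβ with h1 | ⟨s, hs, h1⟩
  · exact h.fix_norm hS hF hβ h1 hc
  · have hcR := h.center_le hc
    have := h.fix_norm hS hF (Subgroup.mul_mem _ (Subgroup.mul_mem _ hβ (h.cj_mem hs)) hα) h1 hc'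
    rwa [efn_mul _ _ (efn_mem _ hcR), efn_efn_inv _ hcR, efn_mul _ _ hcR, efn_cjAut _ _ _ hcR,
      (mem_centralizerIn.1 hc).2 s hs, mul_inv_cancel_right] at this

theorem center_dec {α : MulAut R} (hα : α ∈ F.autGroup R) (hw : efn α z ∉ Subgroup.zpowers z)
    {c : Ω} (hc : c ∈ centralizerIn S S) : ∃ d ∈ centralizerIn S S,
      (∀ β ∈ F.autGroup R, efn β d ∈ centralizerIn S S) ∧ ∃ j : ℤ, c = d * z ^ j := by
  obtain ⟨-, -, -, -, -, dec, -⟩ := h.struct hS hF hα hw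
  obtain ⟨d, hd, hd', i, j, e⟩ := dec c (h.center_le hc)
  have h1 : efn α z ^ i ∈ centralizerIn S S := by
    rw [e] at hc
    exact (Subgroup.mul_mem_cancel_left _ hd).1
      ((Subgroup.mul_mem_cancel_right _ (Subgroup.zpow_mem _ h.z_center j)).1 hc)
  rw [← (homOn_efn α).map_zpow h.zR, h.zpow_central hS hF hα hw h1, (homOn_efn α).map_one,
    mul_one] at e
  exact ⟨d, hd, fun β hβ => h.center_inv hS hF hα hw hβ hd hd', j, e⟩

theorem zpow_eq_one {j : ℤ} (hj : ∀ β ∈ F.autGroup R, efn β (z ^ j) ∈ centralizerIn S S) :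
    z ^ j = 1 := by
  obtain ⟨α, hα, hw⟩ := h.exists_move hS
  exact h.zpow_central hS hF hα hw ((homOn_efn α).map_zpow h.zR j ▸ hj α hα)

end Tv

/-- The central elements staying central under the automorphisms of the proper centric radical
subgroups. -/
def stayCentral (F : FusionSystem S) (p : ℕ) : Subgroup Ω where
  carrier := {c | c ∈ centralizerIn S S ∧ ∀ R, R < S → F.IsCentric R → F.IsRadical p R →
    ∀ β ∈ F.autGroup R, efn β c ∈ centralizerIn S S}
  one_mem' := ⟨Subgroup.one_mem _, fun R _ _ _ β _ => by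
    rw [(homOn_efn β).map_one]; exact Subgroup.one_mem _⟩
  mul_mem' := fun {a b} ha hb => ⟨Subgroup.mul_mem _ ha.1 hb.1, fun R h1 h2 h3 β hβ => by
    rw [(homOn_efn β).map_mul (center_le_of_centric h2 ha.1).1 (center_le_of_centric h2 hb.1).1]
    exact Subgroup.mul_mem _ (ha.2 R h1 h2 h3 β hβ) (hb.2 R h1 h2 h3 β hβ)⟩
  inv_mem' := fun {a} ha => ⟨Subgroup.inv_mem _ ha.1, fun R h1 h2 h3 β hβ => by
    rw [(homOn_efn β).map_inv (center_le_of_centric h2 ha.1).1]
    exact Subgroup.inv_mem _ (ha.2 R h1 h2 h3 β hβ)⟩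

theorem stayCentral_normal : F.IsNormal (stayCentral F p) := by
  have hU : stayCentral F p ≤ S := fun _ hc => hc.1.1
  refine normal_of_kExt hU (kExt_of_frattini hS hF (K := ⊤) hU (fun g hg =>
    (centralizerIn_le_normalizerIn S (stayCentral F p) (mem_centralizerIn.2 ⟨hg, fun x hx =>
      ((mem_centralizerIn.1 hx.1).2 g hg).symm⟩)).2) le_top (fun φ hφ => ?_)
    fun P hP hfn hc hr => ?_)
  · have hM := (mem_autGroup_iff le_rfl).1 hφ
    refine KExt.of_le_top hM hU fun c hc => ⟨efn_mem_center φ hc.1, fun R h1 h2 h3 β hβ => ?_⟩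
    have hM' := ((mem_autGroup_iff le_rfl).1 ((F.autGroup S).inv_mem hφ)).restrict h1.le
    have he := hM'.efn_equiv_M rfl
    have h4 : im (efn φ⁻¹) R < S := lt_of_le_of_ne hM'.im_le fun e => h1.ne
      (eq_of_le_of_card_le h1.le (by rw [← hM'.card_im le_rfl, e]))
    have h5 := hc.2 _ h4 (centric_of_isConj h2 hM'.isConj) (radical_of_isConj h3 hM'.isConj) _
      (mem_autGroup_congr he hβ)
    have hx : efn φ c ∈ R := (center_le_of_centric h2 (efn_mem_center φ hc.1)).1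
    have h6 := efn_congr (hM'.equiv rfl) β hx
    rw [hM'.efn_equiv rfl hx, hM'.efn_equiv rfl (efn_mem _ hx), efn_inv_efn _ hc.1.1] at h6
    have h7 := efn_mem_center φ (h6 ▸ h5)
    rwa [efn_efn_inv _ (h1.le (efn_mem _ hx))] at h7
  · refine ⟨fixAut (F.autGroup P) {c | c ∈ centralizerIn S S ∧ ∀ β ∈ F.autGroup P,
      efn β c ∈ centralizerIn S S}, fixAut_le _ _, conj_mem_fixAut fun a ha x hx hx' =>
        ⟨hx'.2 a ha, fun β hβ => ?_⟩, fun δ hδ => ?_, fun h' => ?_⟩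
    · rw [← efn_mul _ _ hx]; exact hx'.2 _ (Subgroup.mul_mem _ hβ ha)
    · exact KExt.of_le_bot ((mem_autGroup_iff hP.le).1 (mem_fixAut.1 hδ).1)
        (fun c hc' => (center_le_of_centric hc hc'.1).1) fun c hc' => (mem_fixAut.1 hδ).2 c
          (center_le_of_centric hc hc'.1).1 ⟨hc'.1, hc'.2 P hP hc hr⟩
    · obtain ⟨t, ht, htP⟩ := SetLike.exists_of_lt (lt_normalizerIn hS hP)
      refine htP (h' (mem_preAut.2 ⟨ht, mem_fixAut.2 ⟨cjAut_mem_autGroup F hP.le ht,
        fun x hx hx' => ?_⟩⟩))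
      rw [efn_cjAut _ _ _ hx, (mem_centralizerIn.1 hx'.1).2 t ht.1, mul_inv_cancel_right]

theorem center_le_odd (hp2 : p ≠ 2) {z : Ω} {R₁ : Subgroup Ω} (h₁ : Tv F p S R₁ z)
    (hall : ∀ R, R < S → F.IsCentric R → F.IsRadical p R → Tv F p S R z)
    (hU : stayCentral F p = ⊥) : centralizerIn S S ≤ Subgroup.zpowers z := by
  intro c hc
  obtain ⟨α₁, hα₁, hw₁⟩ := h₁.exists_move hS
  obtain ⟨-, -, f₁, -, -, -, hf₁, e₁, -, e₁', -⟩ := h₁.struct hS hF hα₁ hw₁
  obtain ⟨φ₁, hφ₁, eφ₁⟩ := hf₁.exists_aut (hf₁.im_eq_self fun x hx => hf₁.mem hx)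
  obtain ⟨d, hd, hd', j, rfl⟩ := h₁.center_dec hS hF hα₁ hw₁ hc
  have key : d ∈ stayCentral F p := ⟨hd, fun R h1 h2 h3 => by
    have h := hall R h1 h2 h3
    obtain ⟨α, hα, hw⟩ := h.exists_move hS
    obtain ⟨-, -, f, -, -, -, hf, e, -, e', -⟩ := h.struct hS hF hα hw
    obtain ⟨φ, hφ, eφ⟩ := hf.exists_aut (hf.im_eq_self fun x hx => hf.mem hx)
    obtain ⟨u, hu, hu', k, hk⟩ := h.center_dec hS hF hα hw hd
    have h4 : efn (φ * φ₁) z = z := by
      rw [efn_mul _ _ h.zT, eφ₁ z h.zT, e₁, eφ _ (S.inv_mem h.zT), hf.map_inv h.zT, e, inv_inv]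
    have h5 : d⁻¹ * efn (φ * φ₁) d = z ^ (-k + -k) := by
      rw [efn_mul _ _ hd.1, eφ₁ d hd.1, e₁' d hd (hd' _ (Subgroup.inv_mem _ hα₁)), eφ d hd.1, hk,
        hf.map_mul hu.1 (S.zpow_mem h.zT k), e' u hu (hu' _ (Subgroup.inv_mem _ hα)),
        hf.homOn.map_zpow h.zT, e]
      group
    have h6 := fix_of_center hS hF (Subgroup.mul_mem _ hφ hφ₁) hd
      (by rw [h5, (homOn_efn _).map_zpow h.zT, h4])
    rw [h6, inv_mul_cancel, zpow_add, ← pow_two] at h5
    have h7 := pow_gcd_eq_one.2 ⟨h5.symm, h.pow_of_mem ⟨-k, rfl⟩⟩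
    rw [Nat.coprime_two_left.2 (hp.out.odd_of_ne_two hp2), pow_one, zpow_neg, inv_eq_one] at h7
    rw [hk, h7, mul_one]
    exact hu'⟩
  rw [hU, Subgroup.mem_bot] at key
  rw [key, one_mul]
  exact ⟨j, rfl⟩

end Cfsg.Agent.H93
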