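import Cfsg.Agent.H93.AbIdx
import Cfsg.Agent.H93.CenterSq
import Cfsg.Agent.H92.Climb

/-!
# Fusion systems over `p`-groups with an abelian subgroup of index `p`
-/

namespace Cfsg.Agent.H93

open Cfsg Cfsg.FusionSystem
open Cfsg.Agent.H91 hiding mem_opIn_of_chain
open scoped commutatorElement

variable {Ω : Type*} [Group Ω] {p : ℕ} {S : Subgroup Ω} {F : FusionSystem S}

theorem efn_inv_mem {P K : Subgroup Ω} [Finite K] (hK : K ≤ P) {β : MulAut P}
    (h : ∀ z ∈ K, efn β z ∈ K) : ∀ z ∈ K, efn β⁻¹ z ∈ K := by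
  intro z hz
  have h1 := ((homOn_efn β).mono hK).im_eq_self (fun a ha b hb e => by
    rw [← efn_inv_efn β (hK ha), e, efn_inv_efn β (hK hb)]) h
  obtain ⟨y, hy, rfl⟩ := ((homOn_efn β).mono hK).mem_im.1 (h1.symm ▸ hz)
  rwa [efn_inv_efn β (hK hy)]

theorem card_eq_prime_of_le [hp : Fact p.Prime] {K : Subgroup Ω} [Finite K] (hK : IsPGroup p K)
    (h1 : K ≠ ⊥) (h2 : Nat.card K ≤ p) : Nat.card K = p := by
  obtain ⟨n, hn⟩ := hK.exists_card_eq
  have h3 : n ≠ 0 := by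
    rintro rfl
    exact h1 (Subgroup.eq_bot_of_card_eq _ (by simpa using hn))
  have h4 : p ^ n ≤ p ^ 1 := by rw [pow_one, ← hn]; exact h2
  have := (Nat.pow_le_pow_iff_right hp.out.one_lt).1 h4
  rw [hn, show n = 1 by omega, pow_one]

variable [Finite S] [hp : Fact p.Prime] (hS : IsPGroup p S)
include hS

theorem mem_of_two_step {P K : Subgroup Ω} (hc : F.IsCentric P) (hr : F.IsRadical p P)
    (hK : ∀ α ∈ F.autGroup P, ∀ z ∈ P, z ∈ K → efn α z ∈ K) {g : Ω} (hg : g ∈ normalizerIn S P)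
    (h1 : ∀ z ∈ P, z ∈ K → g * z * g⁻¹ = z) (h2 : ∀ y ∈ P, y⁻¹ * (g * y * g⁻¹) ∈ K) : g ∈ P := by
  haveI := finite_of_le hc.1
  refine mem_of_cjAut_mem_opIn hc hr hg (mem_opIn_of_chain (isPGroup_of_le hS hc.1)
    (fun i => if i = 0 then ⊥ else if i = 1 then K else P) 2 (by simp) (by simp)
    ?_ (cjAut_mem_autGroup F hc.1 hg) ?_)
  · intro α hα i _ x hx hx'
    split_ifs at hx' ⊢
    · rw [Subgroup.mem_bot.1 hx', (homOn_efn α).map_one]; exact Subgroup.one_mem _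
    · exact hK α hα x hx hx'
    · exact efn_mem α hx
  · intro i hi x hx hx'
    rw [efn_cjAut _ _ _ hx]
    obtain rfl | rfl : i = 0 ∨ i = 1 := by omega
    · show _ ∈ (⊥ : Subgroup Ω)
      rw [h1 x hx hx', inv_mul_cancel]; exact Subgroup.one_mem _
    · exact h2 x hx

variable (hF : F.IsSaturated p)
include hF

/-- Two automorphisms stabilizing a chain are simultaneously conjugate into `Aut_S(R)`. -/
theorem exists_conj_of_chain {R : Subgroup Ω} (hR : F.IsFullyNormalized R) {X Y : MulAut R}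
    (hX : X ∈ F.autGroup R) (hY : Y ∈ F.autGroup R) (c : ℕ → Subgroup Ω) (n : ℕ) (h0 : c 0 = ⊥)
    (hn : R ≤ c n) (mono : ∀ i < n, c i ≤ c (i + 1))
    (stab : ∀ β ∈ ({X, Y} : Set (MulAut R)), ∀ i < n, ∀ x ∈ R, x ∈ c (i + 1) →
      x⁻¹ * efn β x ∈ c i) :
    ∃ a ∈ F.autGroup R, a * X * a⁻¹ ∈ autInducedBy S R ∧ a * Y * a⁻¹ ∈ autInducedBy S R := by
  haveI := finite_of_le hR.1
  haveI := finite_mulAut hR.1
  haveI := finite_autGroup F hR.1
  have inv : ∀ β ∈ Subgroup.closure ({X, Y} : Set (MulAut R)), ∀ i ≤ n, ∀ x ∈ R, x ∈ c i →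
      efn β x ∈ c i := by
    intro β hβ i hi
    rw [← Subgroup.mem_toSubmonoid, Subgroup.closure_toSubmonoid_of_finite] at hβ
    induction hβ using Submonoid.closure_induction with
    | mem β hβ =>
      intro x hx hx'
      rcases i with _ | i
      · rw [h0, Subgroup.mem_bot] at hx'
        rw [hx', (homOn_efn β).map_one]; exact Subgroup.one_mem _
      · have := Subgroup.mul_mem _ hx' (mono i (by omega) (stab β hβ i (by omega) x hx hx'))
        rwa [mul_inv_cancel_left] at this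
    | one => intro x hx hx'; rwa [efn_one hx]
    | mul β γ _ _ h1 h2 =>
      intro x hx hx'
      rw [efn_mul _ _ hx]
      exact h1 _ (efn_mem _ hx) (h2 x hx hx')
  have key : ∀ β ∈ ({X, Y} : Set (MulAut R)),
      β ∈ opIn p (Subgroup.closure ({X, Y} : Set (MulAut R))) := fun β hβ =>
    mem_opIn_of_chain (isPGroup_of_le hS hR.1) c n (by rw [h0, inf_bot_eq]) hn inv
      (Subgroup.subset_closure hβ) (stab β hβ)
  obtain ⟨a, ha, e⟩ := (sat_sylIn hS hF hR).exists_conj_mem (isPGroup_opIn p _)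
    ((opIn_le p _).trans ((Subgroup.closure_le _).2 (Set.pair_subset hX hY)))
  exact ⟨a, ha, e X (key X (Or.inl rfl)), e Y (key Y (Or.inr rfl))⟩

omit hS

namespace AbI

variable {A P : Subgroup Ω} (h : AbI p S A)
include h

omit hF in
theorem exists_norm (hlt : P < S) {x : Ω} (hx : x ∈ P) (hxA : x ∉ A) :
    ∃ a ∈ A, a ∈ normalizerIn S P ∧ a ∉ P := by
  obtain ⟨t, ht, htP⟩ := SetLike.exists_of_lt (lt_normalizerIn h.pg hlt)
  obtain ⟨a, ha, k, rfl⟩ := h.dec (hlt.le hx) hxA ht.1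
  exact ⟨a, ha, (Subgroup.mul_mem_cancel_right _ (Subgroup.pow_mem _ (le_normalizerIn hlt.le hx) k)).1
    ht, fun h' => htP (P.mul_mem h' (P.pow_mem hx k))⟩

omit hF in
theorem comm_mem (hP : P ≤ S) {a : Ω} (ha : a ∈ normalizerIn S P) {y : Ω} (hy : y ∈ P) :
    y⁻¹ * (a * y * a⁻¹) ∈ P ⊓ A := ⟨P.mul_mem (P.inv_mem hy) (conj_mem_of_mem_normalizer ha.2 hy), by
  rw [show y⁻¹ * (a * y * a⁻¹) = ⁅y⁻¹, a⁆ by simp only [commutatorElement_def]; group]
  exact h.derived_le (Subgroup.commutator_mem_commutator (S.inv_mem (hP hy)) ha.1)⟩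

omit hF in
theorem exists_move (hc : F.IsCentric P) (hr : F.IsRadical p P) (hlt : P < S) {x : Ω} (hx : x ∈ P)
    (hxA : x ∉ A) : ∃ α ∈ F.autGroup P, ∃ u ∈ P ⊓ A, efn α u ∉ A := by
  by_contra hcon
  push Not at hcon
  obtain ⟨a, ha, haN, haP⟩ := h.exists_norm hlt hx hxA
  exact haP (mem_of_two_step h.pg hc hr (K := A) (fun α hα z hz hz' => hcon α hα z ⟨hz, hz'⟩) haN
    (fun z _ hz => by rw [h.ab a ha z hz, mul_inv_cancel_right])
    fun y hy => (h.comm_mem hlt.le haN hy).2)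

theorem card_of_abelian (hfn : F.IsFullyNormalized P) (hc : F.IsCentric P) (hr : F.IsRadical p P)
    (hlt : P < S) {x : Ω} (hx : x ∈ P) (hxA : x ∉ A) (hZ : P ⊓ A = centralizerIn S S) :
    Nat.card ↥(centralizerIn S S ⊓ ⁅S, S⁆) = p := by
  have hP := hlt.le
  have hxS := hP hx
  haveI := finite_of_le hP
  have hZP : centralizerIn S S ≤ P := hZ ▸ inf_le_left
  haveI := finite_of_le hZP
  haveI := finite_of_le (inf_le_left : centralizerIn S S ⊓ ⁅S, S⁆ ≤ _)
  have hZc : ∀ {z s}, z ∈ centralizerIn S S → s ∈ S → s * z * s⁻¹ = z := fun hz hs => by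
    rw [(mem_centralizerIn.1 hz).2 _ hs, mul_inv_cancel_right]
  obtain ⟨α, hα, u, hu, hu'⟩ := h.exists_move hc hr hlt hx hxA
  refine card_eq_prime_of_le (isPGroup_of_le h.pg (inf_le_left.trans (centralizerIn_le _ _)))
    (fun e => ?_) ?_
  · obtain ⟨a, ha, haN, haP⟩ := h.exists_norm hlt hx hxA
    have h1 : dl x a⁻¹ ∈ centralizerIn S S ⊓ ⁅S, S⁆ := ⟨by
      have := hZ.le (h.comm_mem hP haN (P.inv_mem hx))
      rw [show dl x a⁻¹ = (x⁻¹⁻¹ * (a * x⁻¹ * a⁻¹))⁻¹ by simp only [dl]; group]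
      exact Subgroup.inv_mem _ this,
      h.derived_eq hxS hxA ▸ mem_im_of_mem _ (A.inv_mem ha)⟩
    rw [e, Subgroup.mem_bot, h.dl_eq_one hxS hxA (A.inv_mem ha), Subgroup.inv_mem_iff] at h1
    exact haP (hZP h1)
  have hM := (mem_autGroup_iff hP).1 hα
  have hi : (centralizerIn S S ⊓ ⁅S, S⁆) ⊓ im (efn α) (centralizerIn S S) = ⊥ := by
    rw [eq_bot_iff]
    rintro v ⟨⟨hvZ, hv⟩, hvα⟩
    by_contra hv1
    rw [h.derived_eq hxS hxA] at hv
    obtain ⟨b, hb, rfl⟩ := (h.homOn_dl hxS).mem_im.1 hv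
    have h1 : ∀ y ∈ P, dl y b ∈ Subgroup.zpowers (dl x b) := fun y hy =>
      h.dl_mem_of hxS hxA hb (fun k => by
        rw [show dl x (x ^ k * b * (x ^ k)⁻¹) = x ^ k * dl x b * (x ^ k)⁻¹ by simp only [dl]; group,
          hZc hvZ (S.pow_mem hxS k)]
        exact Subgroup.mem_zpowers _) (hP hy)
    have h2 : ∀ y ∈ P, y⁻¹ * (b⁻¹ * y * b⁻¹⁻¹) = dl y b := fun y hy => by
      rw [← hZc ((Subgroup.zpowers_le).2 hvZ (h1 y hy)) (S.inv_mem (hP hy))]
      simp only [dl]; group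
    have hbN : b⁻¹ ∈ normalizerIn S P := ⟨S.inv_mem (h.le hb), mem_normalizer_of_conj_mem
      fun y hy => by
        rw [inv_mul_eq_iff_eq_mul.1 (h2 y hy)]
        exact P.mul_mem hy (hZP ((Subgroup.zpowers_le).2 hvZ (h1 y hy)))⟩
    set X := cjAut P b⁻¹ hbN.2 with hX
    have hXA : X ∈ F.autGroup P := cjAut_mem_autGroup F hP hbN
    have X1 : ∀ y ∈ P, y⁻¹ * efn X y ∈ Subgroup.zpowers (dl x b) := fun y hy => by
      rw [hX, efn_cjAut _ _ _ hy, h2 y hy]; exact h1 y hy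
    have X2 : ∀ z ∈ centralizerIn S S, efn X z = z := fun z hz => by
      rw [hX, efn_cjAut _ _ _ (hZP hz), hZc hz hbN.1]
    have X3 : ∀ y ∈ P, efn X y = y → y ∈ centralizerIn S S := fun y hy e => by
      by_contra hyZ
      have h3 := h2 y hy
      rw [← efn_cjAut P _ hbN.2 hy, ← hX, e, inv_mul_cancel] at h3
      exact hv1 ((h.dl_eq_one hxS hxA hb).2 ((h.dl_eq_one (hP hy)
        (fun hyA => hyZ (hZ ▸ ⟨hy, hyA⟩)) hb).1 h3.symm))
    have Y2 : ∀ y ∈ im (efn α) (centralizerIn S S), efn (α * X * α⁻¹) y = y := fun y hy => by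
      obtain ⟨z, hz, rfl⟩ := (hM.mem_im hZP).1 hy
      rw [efn_mul _ _ (efn_mem _ (hZP hz)), efn_inv_efn _ (hZP hz), efn_mul _ _ (hZP hz), X2 z hz]
    obtain ⟨a, ha, e1, e2⟩ := exists_conj_of_chain h.pg hF hfn hXA
      (Subgroup.mul_mem _ (Subgroup.mul_mem _ hα hXA) (Subgroup.inv_mem _ hα))
      (fun i => if i = 0 then ⊥ else if i = 1 then
        centralizerIn S S ⊓ im (efn α) (centralizerIn S S) else if i = 2 then
        im (efn α) (centralizerIn S S) else P) 3 rfl le_rfl (fun i hi => by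
          obtain rfl | rfl | rfl : i = 0 ∨ i = 1 ∨ i = 2 := by omega
          · exact bot_le
          · exact inf_le_right
          · exact im_le_iff.2 fun z hz => efn_mem α (hZP hz)) (fun β hβ i hi y hy hy' => by
        have hX' : y⁻¹ * efn X y ∈ centralizerIn S S ⊓ im (efn α) (centralizerIn S S) :=
          (Subgroup.zpowers_le (H := centralizerIn S S ⊓ im (efn α) (centralizerIn S S))).2
            ⟨hvZ, hvα⟩ (X1 y hy)
        obtain rfl | rfl | rfl : i = 0 ∨ i = 1 ∨ i = 2 := by omega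
        · show _ ∈ (⊥ : Subgroup Ω)
          rcases hβ with rfl | rfl
          · rw [X2 y hy'.1, inv_mul_cancel]; exact Subgroup.one_mem _
          · rw [Y2 y hy'.2, inv_mul_cancel]; exact Subgroup.one_mem _
        · rcases hβ with rfl | rfl
          · exact hX'
          · rw [Y2 y hy', inv_mul_cancel]; exact Subgroup.one_mem _
        · rcases hβ with rfl | rfl
          · exact hX'.2
          · show _ ∈ im (efn α) (centralizerIn S S)
            have h3 := mem_im_of_mem (efn α) ((Subgroup.zpowers_le).2 hvZ (X1 _ (efn_mem α⁻¹ hy)))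
            rwa [hM.map_mul (P.inv_mem (efn_mem _ hy)) (efn_mem _ (efn_mem _ hy)),
              hM.map_inv (efn_mem _ hy), efn_efn_inv _ hy, ← efn_mul _ _ (efn_mem _ hy),
              ← efn_mul _ _ hy] at h3)
    have key : ∀ γ : MulAut P, γ * X * γ⁻¹ ∈ autInducedBy S P →
        ∀ z ∈ centralizerIn S S, efn γ z ∈ centralizerIn S S := fun γ hγ => by
      obtain ⟨s, hs, e⟩ := mem_autInducedBy_iff'.1 hγ
      have := efn_inv_mem hZP (β := γ⁻¹) fun z hz => X3 _ (efn_mem _ (hZP hz)) (by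
        have h3 := congrArg (efn γ⁻¹) (e z (hZP hz))
        rwa [hZc hz hs.1, efn_mul _ _ (hZP hz), efn_mul _ _ (efn_mem _ (hZP hz)),
          efn_inv_efn _ (efn_mem _ (efn_mem _ (hZP hz)))] at h3)
      rwa [inv_inv] at this
    have h3 := efn_inv_mem hZP (key a e1) _ (key (a * α) (by
      rwa [show a * α * X * (a * α)⁻¹ = a * (α * X * α⁻¹) * a⁻¹ by group]) u (hZ ▸ hu))
    rw [efn_mul _ _ hu.1, efn_inv_efn _ (efn_mem _ hu.1)] at h3
    exact hu' (h.center_le h3)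
  have h1 := H23.card_sup_mul_card_inf (H := centralizerIn S S ⊓ ⁅S, S⁆)
    (N := im (efn α) (centralizerIn S S)) fun z hz => (centralizerIn_le_normalizerIn S _
      (centralizerIn_anti S (hM.restrict hZP).im_le hz.1)).2
  have h2 := card_le_of_le (sup_le (inf_le_left.trans hZP)
    (im_le_iff.2 fun z hz => efn_mem α (hZP hz)) :
    (centralizerIn S S ⊓ ⁅S, S⁆) ⊔ im (efn α) (centralizerIn S S) ≤ P)
  rw [hi, Subgroup.card_bot, mul_one, hM.card_im hZP] at h1
  rw [h1, h.card_inf hP (fun e => hxA (e hx)), hZ, mul_comm] at h2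
  exact Nat.le_of_mul_le_mul_left h2 Nat.card_pos

omit hF in
theorem of_nonabelian (hc : F.IsCentric P) (hr : F.IsRadical p P)
    (hlt : P < S) {x : Ω} (hx : x ∈ P) (hxA : x ∉ A) (hZ : ¬ P ⊓ A ≤ centralizerIn S S) :
    Nat.card ↥(centralizerIn S S ⊓ ⁅S, S⁆) = p ∧ ucs S 2 ≤ A ∧ P ⊓ A = ucs S 2 ∧
      centralizerIn P P = centralizerIn S S := by
  have hP := hlt.le
  haveI := finite_of_le hP
  have hZP : centralizerIn S S ≤ P := fun z hz => (center_le_of_centric hc hz).1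
  haveI := finite_of_le hZP
  haveI := finite_of_le (inf_le_left : centralizerIn S S ⊓ ⁅S, S⁆ ≤ _)
  haveI := finite_of_le (inf_le_left : P ⊓ A ≤ _)
  have h1 : centralizerIn P P = centralizerIn S S := by
    refine le_antisymm (fun y hy => ?_) (center_le_of_centric hc)
    by_cases hyA : y ∈ A
    · exact h.mem_center (hP hx) hxA hyA ((mem_centralizerIn.1 hy).2 x hx)
    · exact absurd (fun a ha => h.mem_center (hP hy.1) hyA ha.2
        ((mem_centralizerIn.1 hy).2 a ha.1).symm) hZ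
  have h2 : ucs S 2 ≤ P := fun y hy => by
    have h3 : ∀ s ∈ S, s⁻¹ * (y * s * y⁻¹) ∈ centralizerIn S S := fun s hs => by
      rw [show s⁻¹ * (y * s * y⁻¹) = ⁅y, s⁻¹⁆⁻¹ by simp only [commutatorElement_def]; group]
      exact Subgroup.inv_mem _ ((mem_ucs_two.1 hy).2 _ (S.inv_mem hs))
    refine mem_of_two_step h.pg hc hr (K := centralizerIn S S)
      (fun α _ z _ hz => h1.le (efn_mem_center α (h1.ge hz)))
      ⟨ucs_le S 2 hy, mem_normalizer_of_conj_mem fun s hs => ?_⟩ (fun z _ hz => ?_)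
      fun s hs => h3 s (hP hs)
    · have := P.mul_mem hs (hZP (h3 s (hP hs)))
      rwa [mul_inv_cancel_left] at this
    · rw [(mem_centralizerIn.1 hz).2 _ (ucs_le S 2 hy), mul_inv_cancel_right]
  have h3 : ucs S 2 ≤ A := by_contra fun h' => hlt.2 ((h.le_ucs_two h').trans h2)
  obtain ⟨α, hα, u, hu, hu'⟩ := h.exists_move hc hr hlt hx hxA
  have hM := ((mem_autGroup_iff hP).1 hα).restrict (inf_le_left : P ⊓ A ≤ P)
  have h4 : Nat.card ↥(P ⊓ A) ≤ Nat.card (centralizerIn S S) * p := by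
    rw [← hM.card_im le_rfl, h.card_inf hM.im_le fun e => hu' (e (mem_im_of_mem _ hu))]
    refine Nat.mul_le_mul_right _ (card_le_of_le fun y hy => ?_)
    obtain ⟨w, hw, rfl⟩ := (hM.mem_im le_rfl).1 hy.1
    refine h.mem_center (hM.mem hu) hu' hy.2 ?_
    rw [← hM.map_mul hu hw, ← hM.map_mul hw hu, h.ab u hu.2 w hw.2]
  have h5 := h.card_ucs_inf
  rw [inf_eq_left.2 h3] at h5
  have h6 := card_le_of_le (le_inf h2 h3)
  have h7 : Nat.card ↥(centralizerIn S S ⊓ ⁅S, S⁆) = p := by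
    refine card_eq_prime_of_le (isPGroup_of_le h.pg (inf_le_left.trans (centralizerIn_le _ _)))
      (fun e => h.not_ucs_two_le ?_) (Nat.le_of_mul_le_mul_left (h5 ▸ h6.trans h4) Nat.card_pos)
    haveI := finite_of_le h2
    rw [e, Subgroup.card_bot, mul_one] at h5
    exact (eq_of_le_of_card_le (center_le_ucs_two S) h5.le).ge
  exact ⟨h7, h3, (eq_of_le_of_card_le (le_inf h2 h3) (by rw [h5, h7]; exact h4)).symm, h1⟩

theorem cr_cases (hfn : F.IsFullyNormalized P) (hc : F.IsCentric P) (hr : F.IsRadical p P)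
    (hlt : P < S) (hPA : P ≠ A) : ∃ x ∈ P, x ∉ A ∧ Nat.card ↥(centralizerIn S S ⊓ ⁅S, S⁆) = p ∧
      (P ⊓ A = centralizerIn S S ∨ ucs S 2 ≤ A ∧ P ⊓ A = ucs S 2 ∧
        centralizerIn P P = centralizerIn S S) := by
  obtain ⟨x, hx, hxA⟩ : ∃ x ∈ P, x ∉ A := by
    by_contra hcon
    push Not at hcon
    exact hPA (le_antisymm hcon fun a ha => centric_centralizerIn_le hc
      (mem_centralizerIn.2 ⟨h.le ha, fun y hy => h.ab y (hcon y hy) a ha⟩))
  by_cases hZ : P ⊓ A ≤ centralizerIn S S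
  · have h1 := le_antisymm hZ (le_inf (fun z hz => (center_le_of_centric hc hz).1) h.center_le)
    exact ⟨x, hx, hxA, h.card_of_abelian hF hfn hc hr hlt hx hxA h1, Or.inl h1⟩
  · obtain ⟨h1, h2⟩ := h.of_nonabelian hc hr hlt hx hxA hZ
    exact ⟨x, hx, hxA, h1, Or.inr h2⟩

omit hF in
theorem card_normalizer (hlt : P < S) {x : Ω} (hx : x ∈ P) (hxA : x ∉ A)
    (h0 : Nat.card ↥(centralizerIn S S ⊓ ⁅S, S⁆) = p)
    (h1 : P ⊓ A = centralizerIn S S ∨ ucs S 2 ≤ A ∧ P ⊓ A = ucs S 2) :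
    P.relIndex (normalizerIn S P) = p := by
  have hP := hlt.le
  have hxS := hP hx
  haveI := finite_normalizerIn (S := S) P
  haveI := finite_of_le hP
  haveI := finite_of_le (inf_le_left.trans (centralizerIn_le _ _) : centralizerIn S S ⊓ ⁅S, S⁆ ≤ S)
  have h2 : im (dl x) (normalizerIn S P ⊓ A) ≤ (P ⊓ A) ⊓ ⁅S, S⁆ := im_le_iff.2 fun a ha => ⟨⟨by
    rw [show dl x a = a⁻¹ * x * a * x⁻¹ by simp only [dl]; group]
    exact P.mul_mem (conj_inv_mem_of_mem_normalizer ha.1.2 hx) (P.inv_mem hx), h.dl_mem hxS ha.2⟩,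
    h.derived_eq hxS hxA ▸ mem_im_of_mem _ ha.2⟩
  have h3 := h.card_dl hxS hxA (inf_le_right : normalizerIn S P ⊓ A ≤ A)
  rw [inf_eq_right.2 (le_inf (H92.center_le_normalizerIn hP) h.center_le)] at h3
  have h4 : Nat.card ↥(normalizerIn S P ⊓ A) ≤ Nat.card ↥(P ⊓ A) * p := by
    haveI := finite_of_le (inf_le_left.trans inf_le_left : (P ⊓ A) ⊓ ⁅S, S⁆ ≤ P)
    rw [h3]
    rcases h1 with h1 | ⟨h1, h1'⟩
    · rw [h1] at h2 ⊢
      exact Nat.mul_le_mul_left _ (h0 ▸ card_le_of_le h2)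
    · have h5 := h.card_ucs_inf
      have h6 := h.card_dl hxS hxA (inf_le_left.trans inf_le_right : (P ⊓ A) ⊓ ⁅S, S⁆ ≤ A)
      have h7 : Nat.card ↥((P ⊓ A) ⊓ ⁅S, S⁆) ≤ p * p := by
        rw [h6]
        refine Nat.mul_le_mul (h0 ▸ card_le_of_le
          (le_inf inf_le_right (inf_le_left.trans inf_le_right))) (h0 ▸ card_le_of_le ?_)
        rw [← h.im_dl_ucs hxS hxA]
        exact im_mono _ (le_inf (inf_le_left.trans h1'.le) (inf_le_left.trans inf_le_right))
      rw [inf_eq_left.2 h1, h0] at h5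
      rw [h1', h5, mul_assoc]
      exact Nat.mul_le_mul_left _ ((card_le_of_le h2).trans h7)
  have h5 := card_mul_relIndex (le_normalizerIn hP)
  rw [h.card_inf (normalizerIn_le S P) fun e => hxA (e (le_normalizerIn hP hx))] at h5
  have h6 : Nat.card P * P.relIndex (normalizerIn S P) ≤ Nat.card P * p := by
    rw [h5, h.card_inf hP fun e => hxA (e hx)]
    exact Nat.mul_le_mul_right _ h4
  obtain ⟨n, hn⟩ := (isPGroup_of_le h.pg (normalizerIn_le S P)).index (P.subgroupOf _)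
  have h7 : n ≠ 0 := by
    rintro rfl
    exact (lt_normalizerIn h.pg hlt).2 (Subgroup.relIndex_eq_one.1 hn)
  have h8 : p ^ n ≤ p ^ 1 := by rw [pow_one, ← hn]; exact Nat.le_of_mul_le_mul_left h6 Nat.card_pos
  have := (Nat.pow_le_pow_iff_right hp.out.one_lt).1 h8
  rw [Subgroup.relIndex, hn, show n = 1 by omega, pow_one]

omit hF in
theorem center_sup_inf {x : Ω} (hx : x ∈ S) (hxA : x ∉ A) :
    (centralizerIn S S ⊔ Subgroup.zpowers x) ⊓ A = centralizerIn S S := by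
  refine le_antisymm (fun y hy => h.mem_center hx hxA hy.2 ?_) (le_inf le_sup_left h.center_le)
  refine (sup_le (fun z hz => ?_) ((Subgroup.zpowers_le).2 ?_) :
    _ ≤ Subgroup.centralizer {x}) hy.1 x rfl
  · rintro _ rfl; exact (mem_centralizerIn.1 hz).2 _ hx
  · rintro _ rfl; rfl

omit hF h hp in
theorem center_sup_comm {x : Ω} (hx : x ∈ S) : ∀ a ∈ centralizerIn S S ⊔ Subgroup.zpowers x,
    ∀ b ∈ centralizerIn S S ⊔ Subgroup.zpowers x, a * b = b * a := by
  have h1 : centralizerIn S S ⊔ Subgroup.zpowers x ≤ S :=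
    sup_le (centralizerIn_le _ _) ((Subgroup.zpowers_le).2 hx)
  intro a ha
  have h2 : centralizerIn S S ⊔ Subgroup.zpowers x ≤ Subgroup.centralizer {a} := by
    refine sup_le (fun z hz => ?_) ((Subgroup.zpowers_le).2 ?_)
    · rintro _ rfl; exact (mem_centralizerIn.1 hz).2 _ (h1 ha)
    · rintro _ rfl
      refine ((sup_le (fun z hz => ?_) ((Subgroup.zpowers_le).2 ?_) :
        _ ≤ Subgroup.centralizer {x}) ha x rfl).symm
      · rintro _ rfl; exact (mem_centralizerIn.1 hz).2 _ hx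
      · rintro _ rfl; rfl
  exact fun b hb => h2 hb a rfl

omit hF in
theorem ucs_two_le
    (huniq : ∀ B : Subgroup Ω, B ≤ S → IsMulCommutative B → (B.subgroupOf S).index = p → B = A)
    (h0 : Nat.card ↥(centralizerIn S S ⊓ ⁅S, S⁆) = p) : ucs S 2 ≤ A := by
  by_contra h1
  obtain ⟨x, hx, hxA⟩ := h.exists_not_mem
  have h2 : ⁅S, S⁆ ≤ centralizerIn S S := Subgroup.commutator_le.2 fun a ha b hb =>
    (mem_ucs_two.1 (h.le_ucs_two h1 ha)).2 b hb
  rw [inf_eq_right.2 h2] at h0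
  have hB : centralizerIn S S ⊔ Subgroup.zpowers x ≤ S :=
    sup_le (centralizerIn_le _ _) ((Subgroup.zpowers_le).2 hx)
  have hxB : x ∈ centralizerIn S S ⊔ Subgroup.zpowers x :=
    Subgroup.mem_sup_right (Subgroup.mem_zpowers x)
  haveI := finite_of_le hB
  have h3 := h.card_inf hB fun e => hxA (e hxB)
  rw [h.center_sup_inf hx hxA, ← h0, ← h.card_A] at h3
  have h4 := card_mul_relIndex hB
  rw [h.card, ← h3] at h4
  exact hxA (huniq _ hB ⟨⟨fun a b => Subtype.ext (center_sup_comm hx a a.2 b b.2)⟩⟩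
    (Nat.eq_of_mul_eq_mul_left Nat.card_pos h4) ▸ hxB)

end AbI

end Cfsg.Agent.H93
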