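import Cfsg.Agent.H93.Transv
import Cfsg.Agent.H93.Tate2
import Cfsg.Agent.S3807

/-!
# `p`-groups with an abelian subgroup of index `p`
-/

namespace Cfsg.Agent.H93

open Cfsg Cfsg.FusionSystem
open Cfsg.Agent.H91 hiding mem_opIn_of_chain
open scoped commutatorElement

variable {Ω : Type*} [Group Ω] {p : ℕ}

theorem homOn_card {Ω' : Type*} [Group Ω'] {B K : Subgroup Ω} {f : Ω → Ω'} (hf : HomOn B f)
    (hK : ∀ x ∈ B, f x = 1 ↔ x ∈ K) : Nat.card B = Nat.card ↥(B ⊓ K) * Nat.card (im f B) := by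
  have h1 : hf.toHom.ker = K.subgroupOf B := Subgroup.ext fun x => hK x x.2
  rw [← hf.range_toHom, ← Subgroup.index_ker, h1, inf_comm, ← Subgroup.subgroupOf_map_subtype,
    Subgroup.card_map_of_injective B.subtype_injective, Subgroup.card_mul_index]

theorem mem_ucs_succ {S : Subgroup Ω} {i : ℕ} {y : Ω} :
    y ∈ ucs S (i + 1) ↔ y ∈ S ∧ ∀ s ∈ S, ⁅y, s⁆ ∈ ucs S i := by
  constructor
  · rintro ⟨y, hy, rfl⟩
    exact ⟨y.2, fun s hs => ⟨_, Subgroup.mem_upperCentralSeries_succ_iff.1 hy ⟨s, hs⟩, rfl⟩⟩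
  · rintro ⟨h1, h2⟩
    refine ⟨⟨y, h1⟩, Subgroup.mem_upperCentralSeries_succ_iff.2 fun s => ?_, rfl⟩
    obtain ⟨z, hz, e⟩ := h2 s s.2
    rwa [show ⁅(⟨y, h1⟩ : S), s⁆ = z from Subtype.ext e.symm]

theorem ucs_one (S : Subgroup Ω) : ucs S 1 = centralizerIn S S := by
  ext y
  rw [mem_ucs_succ, mem_centralizerIn, ucs_zero]
  exact and_congr_right fun _ => forall₂_congr fun s _ => by
    rw [Subgroup.mem_bot, commutatorElement_eq_one_iff_mul_comm, eq_comm]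

theorem mem_ucs_two {S : Subgroup Ω} {y : Ω} :
    y ∈ ucs S 2 ↔ y ∈ S ∧ ∀ s ∈ S, ⁅y, s⁆ ∈ centralizerIn S S := by
  rw [mem_ucs_succ, ucs_one]

/-- The commutator map `a ↦ a⁻¹ a ^ x`. -/
def dl (x a : Ω) : Ω := a⁻¹ * (x * a * x⁻¹)

/-- `A` is an abelian subgroup of index `p` of the nonabelian finite `p`-group `S`. -/
structure AbI (p : ℕ) (S A : Subgroup Ω) : Prop where
  pg : IsPGroup p S
  le : A ≤ S
  ab : ∀ a ∈ A, ∀ b ∈ A, a * b = b * a
  card : Nat.card S = Nat.card A * p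
  conj : ∀ s ∈ S, ∀ a ∈ A, s * a * s⁻¹ ∈ A
  na : ¬ S ≤ centralizerIn S S

theorem abI_of {S A : Subgroup Ω} [Finite S] [Fact p.Prime] (hS : IsPGroup p S)
    (hna : ¬ IsMulCommutative S) (hA : A ≤ S) (hab : IsMulCommutative A)
    (hi : (A.subgroupOf S).index = p) : AbI p S A := by
  haveI := H3.normal_of_index_eq hS hi
  refine ⟨hS, hA, fun a ha b hb => congrArg Subtype.val (hab.is_comm.comm (⟨a, ha⟩ : A) ⟨b, hb⟩),
    by rw [← card_mul_relIndex hA, Subgroup.relIndex, hi], fun s hs a ha =>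
    this.conj_mem (⟨a, hA ha⟩ : S) ha ⟨s, hs⟩, fun h => hna ⟨⟨fun a b =>
      Subtype.ext ((mem_centralizerIn.1 (h b.2)).2 a a.2)⟩⟩⟩

namespace AbI

variable {S A : Subgroup Ω} (h : AbI p S A)
include h

theorem norm : S ≤ Subgroup.normalizer (A : Set Ω) := fun s hs =>
  mem_normalizer_of_conj_mem' (h.conj s hs) fun a ha => by simpa using h.conj _ (S.inv_mem hs) a ha

theorem dl_mem {x a : Ω} (hx : x ∈ S) (ha : a ∈ A) : dl x a ∈ A :=
  A.mul_mem (A.inv_mem ha) (h.conj x hx a ha)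

theorem homOn_dl {x : Ω} (hx : x ∈ S) : HomOn A (dl x) := fun a ha b hb => by
  have := h.ab _ (A.inv_mem hb) _ (h.dl_mem hx ha)
  calc dl x (a * b) = b⁻¹ * dl x a * (x * b * x⁻¹) := by simp only [dl]; group
    _ = dl x a * dl x b := by rw [this]; simp only [dl]; group

variable [Finite S] [hp : Fact p.Prime]

theorem sup_eq {B : Subgroup Ω} (hB : B ≤ S) (hBA : ¬ B ≤ A) : B ⊔ A = S :=
  eq_of_card_eq_mul_prime le_sup_right (sup_le hB h.le) h.card fun e => hBA (le_sup_left.trans e)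

theorem card_inf {B : Subgroup Ω} (hB : B ≤ S) (hBA : ¬ B ≤ A) :
    Nat.card B = Nat.card ↥(B ⊓ A) * p := by
  haveI := finite_of_le h.le
  have := H23.card_sup_mul_card_inf (hB.trans h.norm)
  rw [h.sup_eq hB hBA, h.card] at this
  refine Nat.eq_of_mul_eq_mul_left (Nat.card_pos (α := A)) ?_
  rw [mul_comm, ← this]; ring

theorem dec {x : Ω} (hx : x ∈ S) (hxA : x ∉ A) {s : Ω} (hs : s ∈ S) :
    ∃ a ∈ A, ∃ k : ℕ, s = a * x ^ k := by
  have h1 := h.sup_eq ((Subgroup.zpowers_le).2 hx) fun e => hxA (e (Subgroup.mem_zpowers x))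
  rw [← h1, sup_comm] at hs
  obtain ⟨a, ha, y, hy, rfl⟩ :=
    (H23.mem_sup_of_le_normalizer_left ((Subgroup.zpowers_le).2 (h.norm hx))).1 hs
  obtain ⟨k, rfl⟩ := (IsOfFinOrder.mem_powers_iff_mem_zpowers
    (isOfFinOrder_iff_pow_eq_one.2 ⟨_, Nat.card_pos (α := S),
      congrArg Subtype.val (pow_card_eq_one' (x := (⟨x, hx⟩ : S)))⟩)).2 hy
  exact ⟨a, ha, k, rfl⟩

theorem mem_center {x : Ω} (hx : x ∈ S) (hxA : x ∉ A) {a : Ω} (ha : a ∈ A) (e : x * a = a * x) :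
    a ∈ centralizerIn S S := by
  refine mem_centralizerIn.2 ⟨h.le ha, fun s hs => ?_⟩
  obtain ⟨b, hb, k, rfl⟩ := h.dec hx hxA hs
  exact Commute.mul_left (h.ab b hb a ha) (Commute.pow_left e k)

theorem center_le : centralizerIn S S ≤ A := by
  intro x hx
  by_contra hxA
  refine h.na fun s hs => ?_
  obtain ⟨b, hb, k, rfl⟩ := h.dec hx.1 hxA hs
  exact Subgroup.mul_mem _ (h.mem_center hx.1 hxA hb ((mem_centralizerIn.1 hx).2 b (h.le hb)).symm)
    (Subgroup.pow_mem _ hx k)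

theorem exists_not_mem : ∃ x ∈ S, x ∉ A := by
  by_contra hc
  push Not at hc
  exact h.na fun s hs => mem_centralizerIn.2 ⟨hs, fun t ht => h.ab t (hc t ht) s (hc s hs)⟩

theorem dl_eq_one {x : Ω} (hx : x ∈ S) (hxA : x ∉ A) {a : Ω} (ha : a ∈ A) :
    dl x a = 1 ↔ a ∈ centralizerIn S S := by
  rw [dl, inv_mul_eq_one, eq_mul_inv_iff_mul_eq]
  exact ⟨fun e => h.mem_center hx hxA ha e.symm, fun e => ((mem_centralizerIn.1 e).2 x hx).symm⟩

theorem card_dl {x : Ω} (hx : x ∈ S) (hxA : x ∉ A) {B : Subgroup Ω} (hB : B ≤ A) :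
    Nat.card B = Nat.card ↥(B ⊓ centralizerIn S S) * Nat.card (im (dl x) B) :=
  homOn_card ((h.homOn_dl hx).mono hB) fun a ha => h.dl_eq_one hx hxA (hB ha)

/-- Commutators of `a ∈ A` lie in every subgroup containing `dl x` of the `x`-conjugates of `a`. -/
theorem dl_mem_of {x : Ω} (hx : x ∈ S) (hxA : x ∉ A) {a : Ω} (ha : a ∈ A) {D : Subgroup Ω}
    (hD : ∀ k : ℕ, dl x (x ^ k * a * (x ^ k)⁻¹) ∈ D) {s : Ω} (hs : s ∈ S) : dl s a ∈ D := by
  obtain ⟨b, hb, k, rfl⟩ := h.dec hx hxA hs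
  have h1 : dl (b * x ^ k) a = dl (x ^ k) a := by
    have := h.ab b hb _ (h.conj _ (S.pow_mem hx k) a ha)
    calc dl (b * x ^ k) a = a⁻¹ * (b * (x ^ k * a * (x ^ k)⁻¹)) * b⁻¹ := by simp only [dl]; group
      _ = _ := by rw [this]; simp only [dl]; group
  rw [h1]
  clear h1 hs
  induction k with
  | zero => simp [dl]
  | succ k ih =>
    rw [show dl (x ^ (k + 1)) a = dl (x ^ k) a * dl x (x ^ k * a * (x ^ k)⁻¹) by
      simp only [dl]; group]
    exact D.mul_mem ih (hD k)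

theorem commutator_eq {x : Ω} (hx : x ∈ S) (hxA : x ∉ A) {B : Subgroup Ω} (hB : B ≤ A)
    (hn : ∀ s ∈ S, ∀ b ∈ B, s * b * s⁻¹ ∈ B) : ⁅B, S⁆ = im (dl x) B := by
  refine le_antisymm (Subgroup.commutator_le.2 fun b hb s hs => ?_) (im_le_iff.2 fun b hb => ?_)
  · rw [show ⁅b, s⁆ = dl s b⁻¹ by simp only [dl, commutatorElement_def]; group]
    exact h.dl_mem_of hx hxA (hB (B.inv_mem hb))
      (fun k => mem_im_of_mem _ (hn _ (S.pow_mem hx k) _ (B.inv_mem hb))) hs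
  · rw [show dl x b = ⁅b⁻¹, x⁆ by simp only [dl, commutatorElement_def]; group]
    exact Subgroup.commutator_mem_commutator (B.inv_mem hb) hx

theorem derived_eq {x : Ω} (hx : x ∈ S) (hxA : x ∉ A) : ⁅S, S⁆ = im (dl x) A := by
  rw [← h.commutator_eq hx hxA le_rfl h.conj]
  refine le_antisymm (Subgroup.commutator_le.2 fun s hs t ht => ?_)
    (Subgroup.commutator_mono h.le le_rfl)
  obtain ⟨a, ha, i, rfl⟩ := h.dec hx hxA hs
  obtain ⟨b, hb, j, rfl⟩ := h.dec hx hxA ht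
  have hi := S.pow_mem hx i
  have hj := S.pow_mem hx j
  have h1 := Subgroup.commutator_mem_commutator ha (S.mul_mem (h.le hb) hj)
  have h2 := Subgroup.commutator_mem_commutator (h.conj _ (h.le ha) b hb)
    (S.mul_mem (S.mul_mem (h.le ha) hi) (S.inv_mem (h.le ha)))
  have h3 := Subgroup.mul_mem _ (Subgroup.inv_mem _ h2) h1
  have e : ⁅a * x ^ i, b * x ^ j⁆ = ⁅a * b * a⁻¹, a * x ^ i * a⁻¹⁆⁻¹ * ⁅a, b * x ^ j⁆ := by
    simp only [commutatorElement_def]; group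
  rwa [e]

theorem derived_le : ⁅S, S⁆ ≤ A := by
  obtain ⟨x, hx, hxA⟩ := h.exists_not_mem
  rw [h.derived_eq hx hxA]
  exact im_le_iff.2 fun a ha => h.dl_mem hx ha

theorem mem_ucs_two_iff {x : Ω} (hx : x ∈ S) (hxA : x ∉ A) {a : Ω} (ha : a ∈ A) :
    a ∈ ucs S 2 ↔ dl x a ∈ centralizerIn S S := by
  rw [← Subgroup.inv_mem_iff, mem_ucs_two]
  refine ⟨fun h1 => ?_, fun h1 => ⟨S.inv_mem (h.le ha), fun s hs => ?_⟩⟩
  · have := h1.2 x hx
    rwa [show ⁅a⁻¹, x⁆ = dl x a by simp only [dl, commutatorElement_def]; group] at this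
  · rw [show ⁅a⁻¹, s⁆ = dl s a by simp only [dl, commutatorElement_def]; group]
    refine h.dl_mem_of hx hxA ha (fun k => ?_) hs
    rw [show dl x (x ^ k * a * (x ^ k)⁻¹) = x ^ k * dl x a * (x ^ k)⁻¹ by simp only [dl]; group,
      (mem_centralizerIn.1 h1).2 _ (S.pow_mem hx k), mul_inv_cancel_right]
    exact h1

theorem im_dl_ucs {x : Ω} (hx : x ∈ S) (hxA : x ∉ A) :
    im (dl x) (ucs S 2 ⊓ A) = centralizerIn S S ⊓ ⁅S, S⁆ := by
  rw [h.derived_eq hx hxA]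
  refine le_antisymm (im_le_iff.2 fun a ha => ⟨(h.mem_ucs_two_iff hx hxA ha.2).1 ha.1,
    mem_im_of_mem _ ha.2⟩) fun y hy => ?_
  obtain ⟨a, ha, rfl⟩ := (h.homOn_dl hx).mem_im.1 hy.2
  exact mem_im_of_mem _ ⟨(h.mem_ucs_two_iff hx hxA ha).2 hy.1, ha⟩

omit h [Finite S] hp in
theorem center_le_ucs_two (S : Subgroup Ω) : centralizerIn S S ≤ ucs S 2 :=
  ucs_one S ▸ ucs_mono S one_le_two

theorem card_ucs_inf : Nat.card ↥(ucs S 2 ⊓ A) =
    Nat.card (centralizerIn S S) * Nat.card ↥(centralizerIn S S ⊓ ⁅S, S⁆) := by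
  obtain ⟨x, hx, hxA⟩ := h.exists_not_mem
  rw [h.card_dl hx hxA inf_le_right, h.im_dl_ucs hx hxA,
    inf_eq_right.2 (le_inf (center_le_ucs_two S) h.center_le)]

theorem card_A : Nat.card A = Nat.card (centralizerIn S S) * Nat.card ↥⁅S, S⁆ := by
  obtain ⟨x, hx, hxA⟩ := h.exists_not_mem
  rw [h.card_dl hx hxA le_rfl, h.derived_eq hx hxA, inf_eq_right.2 h.center_le]

theorem le_ucs_two (h1 : ¬ ucs S 2 ≤ A) : S ≤ ucs S 2 := by
  obtain ⟨y, hy, hyA⟩ := SetLike.not_le_iff_exists.1 h1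
  have hyS := ucs_le S 2 hy
  intro s hs
  obtain ⟨a, ha, k, rfl⟩ := h.dec hyS hyA hs
  refine Subgroup.mul_mem _ ((h.mem_ucs_two_iff hyS hyA ha).2 ?_) (Subgroup.pow_mem _ hy k)
  rw [show dl y a = ⁅y, a⁻¹⁆⁻¹ by simp only [dl, commutatorElement_def]; group]
  exact Subgroup.inv_mem _ ((mem_ucs_two.1 hy).2 _ (S.inv_mem (h.le ha)))

theorem not_ucs_two_le : ¬ ucs S 2 ≤ centralizerIn S S := fun h1 => h.na (by
  haveI := h.pg.isNilpotent
  have h2 : ucs S 1 = ucs S 2 := le_antisymm (ucs_mono S one_le_two) (ucs_one S ▸ h1)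
  have h3 := Subgroup.upperCentralSeries.eq_top (by norm_num)
    (Subgroup.map_injective S.subtype_injective h2)
  rw [← ucs_one, ucs, h3, ← MonoidHom.range_eq_map, Subgroup.range_subtype])

theorem lcs_le (i : ℕ) : S.lowerCentralSeries (i + 1) ≤ ⁅S, S⁆ :=
  Subgroup.lowerCentralSeries_antitone S (Nat.le_add_left 1 i)

theorem card_lcs (i : ℕ) : Nat.card ↥⁅S, S⁆ ≤
    Nat.card ↥(centralizerIn S S ⊓ ⁅S, S⁆) ^ i * Nat.card (S.lowerCentralSeries (i + 1)) := by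
  obtain ⟨x, hx, hxA⟩ := h.exists_not_mem
  haveI := finite_of_le (inf_le_left.trans (centralizerIn_le S S) : centralizerIn S S ⊓ ⁅S, S⁆ ≤ S)
  induction i with
  | zero => rw [pow_zero, one_mul]; exact le_rfl
  | succ i ih =>
    have h1 := (h.lcs_le i).trans h.derived_le
    rw [h.card_dl hx hxA h1, ← h.commutator_eq hx hxA h1 fun s hs b hb =>
      conj_mem_of_mem_normalizer (Subgroup.self_le_normalizer_lowerCentralSeries S _ hs) hb] at ih
    refine ih.trans ?_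
    rw [pow_succ, mul_assoc]
    exact Nat.mul_le_mul_left _ (Nat.mul_le_mul_right _
      (card_le_of_le (le_inf inf_le_right (inf_le_left.trans (h.lcs_le i)))))

theorem eq_inf_sup {B : Subgroup Ω} (hB : B ≤ S) {x : Ω} (hx : x ∈ B) (hxA : x ∉ A) :
    B = (B ⊓ A) ⊔ Subgroup.zpowers x := by
  refine le_antisymm (fun s hs => ?_) (sup_le inf_le_left ((Subgroup.zpowers_le).2 hx))
  obtain ⟨a, ha, k, rfl⟩ := h.dec (hB hx) hxA (hB hs)
  exact Subgroup.mul_mem _ (Subgroup.mem_sup_left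
    ⟨(B.mul_mem_cancel_right (B.pow_mem hx k)).1 hs, ha⟩)
    (Subgroup.mem_sup_right (Subgroup.pow_mem _ (Subgroup.mem_zpowers x) k))

end AbI

end Cfsg.Agent.H93
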