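import Cfsg.Agent.H93.CenterSq

/-!
# Fusion systems over `2`-groups with derived group of order two
-/

namespace Cfsg.Agent.H93

open Cfsg Cfsg.FusionSystem
open Cfsg.Agent.H91 hiding mem_opIn_of_chain

variable {Ω : Type*} [Group Ω] {S : Subgroup Ω} {F : FusionSystem S}
  [Finite S] [hp : Fact (Nat.Prime 2)] (hS : IsPGroup 2 S) (hF : F.IsSaturated 2)
include hS hF

/-- The central elements staying central under `Aut_F(R)`. -/
def Stay (F : FusionSystem S) (R : Subgroup Ω) (c : Ω) : Prop :=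
  c ∈ centralizerIn S S ∧ ∀ β ∈ F.autGroup R, efn β c ∈ centralizerIn S S

namespace Tv

variable {R R' : Subgroup Ω} {z : Ω} (h : Tv F 2 S R z)
include h

omit hS hF in
theorem stay_mul {a b : Ω} (ha : Stay F R a) (hb : Stay F R b) : Stay F R (a * b) :=
  ⟨Subgroup.mul_mem _ ha.1 hb.1, fun β hβ => by
    rw [(homOn_efn β).map_mul (h.center_le ha.1) (h.center_le hb.1)]
    exact Subgroup.mul_mem _ (ha.2 β hβ) (hb.2 β hβ)⟩

omit hS hF in
theorem stay_inv {a : Ω} (ha : Stay F R a) : Stay F R a⁻¹ :=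
  ⟨Subgroup.inv_mem _ ha.1, fun β hβ => by
    rw [(homOn_efn β).map_inv (h.center_le ha.1)]
    exact Subgroup.inv_mem _ (ha.2 β hβ)⟩

omit [Finite S] hp hS hF in
theorem zz : z * z = 1 := by rw [← pow_two, h.zp]

theorem stay_or {c : Ω} (hc : c ∈ centralizerIn S S) : Stay F R c ∨ Stay F R (c * z) := by
  obtain ⟨α, hα, hw⟩ := h.exists_move hS
  obtain ⟨d, hd, hd', j, rfl⟩ := h.center_dec hS hF hα hw hc
  rcases (H42.mem_zpowers_of_mul_self h.zz).1 ⟨j, rfl⟩ with e | e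
  · simp only at e
    rw [e, mul_one]; exact Or.inl ⟨hd, hd'⟩
  · simp only at e
    rw [e, mul_assoc, h.zz, mul_one]; exact Or.inr ⟨hd, hd'⟩

theorem sq_stay {c : Ω} (hc : c ∈ centralizerIn S S) : Stay F R (c * c) := by
  rcases h.stay_or hS hF hc with h1 | h1
  · exact h.stay_mul h1 h1
  · have := h.stay_mul h1 h1
    rwa [mul_assoc, ← mul_assoc z, ← h.zc c hc.1, mul_assoc, h.zz, mul_one] at this

theorem mem_cases {α : MulAut R} (hα : α ∈ F.autGroup R) (hw : efn α z ∉ Subgroup.zpowers z)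
    {x : Ω} (hx : x ∈ R) : x ∈ centralizerIn S S ∨ x * (efn α z)⁻¹ ∈ centralizerIn S S := by
  obtain ⟨-, -, -, -, -, dec, -⟩ := h.struct hS hF hα hw
  obtain ⟨c, hc, -, i, j, rfl⟩ := dec x hx
  have h1 : efn α z * efn α z = 1 := by
    rw [← (homOn_efn α).map_mul h.zR h.zR, h.zz, (homOn_efn α).map_one]
  have h2 := Subgroup.mul_mem _ hc (Subgroup.zpow_mem _ h.z_center j)
  rcases (H42.mem_zpowers_of_mul_self h1).1 ⟨i, rfl⟩ with e | e
  · simp only at e
    rw [e, mul_one]; exact Or.inl h2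
  · simp only at e
    rw [e, mul_assoc c, (mem_centralizerIn.1 (Subgroup.zpow_mem _ h.z_center j)).2 _
      (h.RS (efn_mem α h.zR)), ← mul_assoc, mul_inv_cancel_right]
    exact Or.inr h2

theorem not_central {α : MulAut R} (hα : α ∈ F.autGroup R) (hw : efn α z ∉ Subgroup.zpowers z) :
    efn α z ∉ centralizerIn S S := fun hc => h.z_ne_one hS (by
  have := h.zpow_central hS hF hα hw (i := 1) (by rwa [zpow_one])
  rwa [zpow_one] at this)

theorem eq_of_mem (h' : Tv F 2 S R' z) {α : MulAut R} (hα : α ∈ F.autGroup R)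
    (hw : efn α z ∉ Subgroup.zpowers z) (hm : efn α z ∈ R') : R = R' :=
  h.eq_of_le hS hF (fun x hx => by
    rcases h.mem_cases hS hF hα hw hx with h1 | h1
    · exact h'.center_le h1
    · exact (R'.mul_mem_cancel_right (R'.inv_mem hm)).1 (h'.center_le h1)) h'.lt

variable (h' : Tv F 2 S R' z) (hU : ∀ c, Stay F R c → Stay F R' c → c = 1)
include h' hU

theorem stay_eq {a b : Ω} (ha : Stay F R a) (hb : Stay F R b) (ha1 : a ≠ 1) (hb1 : b ≠ 1) :
    a = b := by
  have h1 := (h'.stay_or hS hF ha.1).resolve_left fun e => ha1 (hU a ha e)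
  have h2 := (h'.stay_or hS hF hb.1).resolve_left fun e => hb1 (hU b hb e)
  have h3 := h'.stay_mul h1 (h'.stay_inv h2)
  rw [mul_inv_rev, mul_assoc, mul_inv_cancel_left] at h3
  exact mul_inv_eq_one.1 (hU _ (h.stay_mul ha (h.stay_inv hb)) h3)

theorem two_local {α β : MulAut R} (hα : α ∈ F.autGroup R) (hw : efn α z ∉ Subgroup.zpowers z)
    (hβ : β ∈ F.autGroup R) {x : Ω} (hx : x ∈ R) :
    x⁻¹ * efn β x ∈ Subgroup.zpowers (efn α z) ⊔ Subgroup.zpowers z := by
  obtain ⟨-, -, -, -, -, dec, -⟩ := h.struct hS hF hα hw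
  obtain ⟨c, hc, hc', i, j, rfl⟩ := dec x hx
  have hs : Stay F R c := ⟨hc, fun γ hγ => h.center_inv hS hF hα hw hγ hc hc'⟩
  have hcR := h.center_le hc
  have hwR := efn_mem α h.zR
  have h1 : efn β c = c := by
    by_cases h2 : c = 1
    · rw [h2, (homOn_efn β).map_one]
    · refine h.stay_eq hS hF h' hU ⟨hs.2 β hβ, fun γ hγ => ?_⟩ hs (fun e => h2 ?_) h2
      · rw [← efn_mul _ _ hcR]; exact hs.2 _ (Subgroup.mul_mem _ hγ hβ)
      · rw [← efn_inv_efn β hcR, e, (homOn_efn _).map_one]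
  rw [(homOn_efn β).map_mul (R.mul_mem hcR (R.zpow_mem hwR i)) (R.zpow_mem h.zR j),
    (homOn_efn β).map_mul hcR (R.zpow_mem hwR i), h1, (homOn_efn β).map_zpow hwR,
    (homOn_efn β).map_zpow h.zR, mul_assoc c, mul_assoc c, mul_inv_rev, mul_assoc,
    inv_mul_cancel_left, ← efn_mul _ _ h.zR]
  exact Subgroup.mul_mem _ (Subgroup.inv_mem _ (Subgroup.mul_mem _
    (Subgroup.mem_sup_left ⟨i, rfl⟩) (Subgroup.mem_sup_right ⟨j, rfl⟩)))
    (Subgroup.mul_mem _ (Subgroup.zpow_mem _ (h.orbit_mem hS hF hα hw (Subgroup.mul_mem _ hβ hα)) i)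
      (Subgroup.zpow_mem _ (h.orbit_mem hS hF hα hw hβ) j))

end Tv

theorem center_le_two {z : Ω} {R₁ : Subgroup Ω} (h₁ : Tv F 2 S R₁ z)
    (hall : ∀ R, R < S → F.IsCentric R → F.IsRadical 2 R → Tv F 2 S R z)
    (hU : stayCentral F 2 = ⊥) (hfoc : S ≤ F.focalSubgroup) :
    centralizerIn S S ≤ Subgroup.zpowers z := by
  intro c₀ hc₀
  by_contra hc₀z
  have hZ : ∀ {c x}, c ∈ centralizerIn S S → x ∈ S → x * c = c * x := fun hc hx =>
    (mem_centralizerIn.1 hc).2 _ hx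
  have hzZ : Subgroup.zpowers z ≤ centralizerIn S S := (Subgroup.zpowers_le).2 h₁.z_center
  have dec : ∀ c ∈ centralizerIn S S, c ∉ Subgroup.zpowers z →
      ∃ d, Stay F R₁ d ∧ d ≠ 1 ∧ d⁻¹ * c ∈ Subgroup.zpowers z := fun c hc hcz => by
    rcases h₁.stay_or hS hF hc with h1 | h1
    · exact ⟨c, h1, fun e => hcz (e ▸ Subgroup.one_mem _), by
        rw [inv_mul_cancel]; exact Subgroup.one_mem _⟩
    · refine ⟨c * z, h1, fun e => hcz ?_, ?_⟩
      · rw [eq_inv_of_mul_eq_one_left e]; exact Subgroup.inv_mem _ (Subgroup.mem_zpowers z)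
      · rw [mul_inv_rev, inv_mul_cancel_right]; exact Subgroup.inv_mem _ (Subgroup.mem_zpowers z)
  obtain ⟨c₁, hc₁, hc₁1, -⟩ := dec c₀ hc₀ hc₀z
  obtain ⟨R₂, l₂, c₂, r₂, hne⟩ : ∃ R₂, R₂ < S ∧ F.IsCentric R₂ ∧ F.IsRadical 2 R₂ ∧ R₂ ≠ R₁ := by
    by_contra hc
    push Not at hc
    refine hc₁1 (Subgroup.mem_bot.1 (hU ▸ ⟨hc₁.1, fun R h1 h2 h3 => ?_⟩))
    rw [hc R h1 h2 h3]; exact hc₁.2
  have h₂ := hall R₂ l₂ c₂ r₂
  obtain ⟨α₁, hα₁, hw₁⟩ := h₁.exists_move hS
  obtain ⟨α₂, hα₂, hw₂⟩ := h₂.exists_move hS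
  have n₁ := h₁.not_central hS hF hα₁ hw₁
  have m₁ := fun x (hx : x ∈ R₁) => h₁.mem_cases hS hF hα₁ hw₁ hx
  have t₁ := fun (h' : Tv F 2 S R₂ z) hU β hβ x hx => h₁.two_local hS hF h' hU (β := β) hα₁ hw₁ hβ
    (x := x) hx
  have t₂ := fun hU β hβ x hx => h₂.two_local hS hF h₁ hU (β := β) hα₂ hw₂ hβ (x := x) hx
  have hw₂R : efn α₂ z ∉ R₁ := fun hm => hne (h₂.eq_of_mem hS hF h₁ hα₂ hw₂ hm)
  have w₁R := efn_mem α₁ h₁.zR
  have w₂R := efn_mem α₂ h₂.zR
  have w₁S := h₁.RS w₁R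
  have w₂S := h₂.RS w₂R
  have s₁ : efn α₁ z * efn α₁ z = 1 := by
    rw [← (homOn_efn α₁).map_mul h₁.zR h₁.zR, h₁.zz, (homOn_efn α₁).map_one]
  have s₂ : efn α₂ z * efn α₂ z = 1 := by
    rw [← (homOn_efn α₂).map_mul h₂.zR h₂.zR, h₁.zz, (homOn_efn α₂).map_one]
  have hc12 : (efn α₁ z)⁻¹ * (efn α₂ z * efn α₁ z * (efn α₂ z)⁻¹) = z :=
    ((H42.mem_zpowers_of_mul_self h₁.zz).1 (h₁.comm _ w₁S _ w₂S)).resolve_left fun e =>
      h₁.not_comm hS hF hα₁ hw₁ w₂S hw₂R (inv_mul_eq_one.1 e).symm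
  generalize efn α₁ z = w₁ at *
  generalize efn α₂ z = w₂ at *
  have i₁ : w₁⁻¹ = w₁ := inv_eq_of_mul_eq_one_right s₁
  have i₂ : w₂⁻¹ = w₂ := inv_eq_of_mul_eq_one_right s₂
  have su : (w₁ * w₂) * (w₁ * w₂) = z := by rw [← hc12, i₁, i₂]; group
  have uS := S.mul_mem w₁S w₂S
  have cls : ∀ x ∈ S, x ∈ centralizerIn S S ∨ x * w₁⁻¹ ∈ centralizerIn S S ∨
      x * w₂⁻¹ ∈ centralizerIn S S ∨ x * (w₁ * w₂)⁻¹ ∈ centralizerIn S S := fun x hx => by
    obtain ⟨k, hk⟩ := h₁.exists_mul hS hF w₂S hw₂R (S.inv_mem hx)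
    have hk' := R₁.inv_mem hk
    rw [mul_inv_rev, inv_inv, inv_inv] at hk'
    rcases (H42.mem_zpowers_of_mul_self s₂).1 ⟨k, rfl⟩ with e | e
    · simp only at e
      rw [e, mul_one] at hk'
      exact (m₁ x hk').elim Or.inl fun h => Or.inr (Or.inl h)
    · simp only at e
      rw [e, ← i₂] at hk'
      refine Or.inr (Or.inr ((m₁ _ hk').imp_right fun h => ?_))
      rwa [mul_inv_rev, ← mul_assoc]
  have sq : ∀ {x y}, y ∈ S → x * y⁻¹ ∈ centralizerIn S S → x * x = x * y⁻¹ * (x * y⁻¹) * (y * y) :=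
    fun {x y} hy hc => by
      calc x * x = x * y⁻¹ * (y * (x * y⁻¹)) * y := by group
        _ = _ := by rw [hZ hc hy]; group
  have only : ∀ R, R < S → F.IsCentric R → F.IsRadical 2 R → R = R₁ ∨ R = R₂ := fun R h1 h2 h3 => by
    have h := hall R h1 h2 h3
    obtain ⟨α, hα, hw⟩ := h.exists_move hS
    rcases cls _ (h.RS (efn_mem α h.zR)) with h4 | h4 | h4 | h4
    · exact absurd h4 (h.not_central hS hF hα hw)
    · exact Or.inl (h.eq_of_mem hS hF h₁ hα hw
        ((R₁.mul_mem_cancel_right (R₁.inv_mem w₁R)).1 (h₁.center_le h4)))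
    · exact Or.inr (h.eq_of_mem hS hF h₂ hα hw
        ((R₂.mul_mem_cancel_right (R₂.inv_mem w₂R)).1 (h₂.center_le h4)))
    · exfalso
      have h5 := sq uS h4
      rw [← (homOn_efn α).map_mul h.zR h.zR, h.zz, (homOn_efn α).map_one, su] at h5
      have h6 := h₁.sq_stay hS hF h4
      rw [eq_inv_of_mul_eq_one_left h5.symm, ← zpow_neg_one] at h6
      have h7 := h₁.zpow_eq_one hS hF h6.2
      rw [zpow_neg_one, inv_eq_one] at h7
      exact h₁.z_ne_one hS h7
  have hU' : ∀ c, Stay F R₁ c → Stay F R₂ c → c = 1 := fun c h1 h2 =>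
    Subgroup.mem_bot.1 (hU ▸ ⟨h1.1, fun R l c r => by
      rcases only R l c r with rfl | rfl
      · exact h1.2
      · exact h2.2⟩)
  have sqZ : ∀ c ∈ centralizerIn S S, c * c = 1 := fun c hc =>
    hU' _ (h₁.sq_stay hS hF hc) (h₂.sq_stay hS hF hc)
  have sq' : ∀ {x y}, y ∈ S → x * y⁻¹ ∈ centralizerIn S S → x * x = y * y := fun hy hc => by
    rw [sq hy hc, sqZ _ hc, one_mul]
  have hzn : ∀ {x}, x ∈ S → x ∈ Subgroup.normalizer ((Subgroup.zpowers z : Subgroup Ω) : Set Ω) :=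
    fun {x} hx => mem_normalizer_of_conj_mem' (fun y hy => by rwa [h₁.conj_zpow hx hy]) fun y hy => by
      have := h₁.conj_zpow (S.inv_mem hx) hy
      rw [inv_inv] at this
      rwa [this]
  have hNc : ∀ s ∈ S, ∀ x ∈ Subgroup.zpowers z ⊔ Subgroup.zpowers w₁,
      s * x * s⁻¹ ∈ Subgroup.zpowers z ⊔ Subgroup.zpowers w₁ := fun s hs x hx => by
    have := Subgroup.mul_mem _ hx (le_sup_left (b := Subgroup.zpowers w₁)
      (h₁.comm x (sup_le (hzZ.trans (centralizerIn_le _ _)) ((Subgroup.zpowers_le).2 w₁S) hx) s hs))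
    rwa [mul_inv_cancel_left] at this
  have hE : F.focalSubgroup ≤ Subgroup.zpowers z ⊔ Subgroup.zpowers w₁ ⊔ Subgroup.zpowers w₂ := by
    refine focal_le_of_essential hS hF (fun x hx g hg =>
      Subgroup.mem_sup_left (Subgroup.mem_sup_left (h₁.comm x hx g hg))) ?_
    rintro P (rfl | hP) ψ hψ hco x hx
    · have hψZ : ∀ {c}, c ∈ centralizerIn P P → efn ψ c ∈ centralizerIn P P := fun hc =>
        efn_mem_center ψ hc
      have hψZ' : ∀ {c}, c ∈ P → efn ψ c ∈ centralizerIn P P → c ∈ centralizerIn P P :=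
        fun {c} hc h => efn_inv_efn ψ hc ▸ efn_mem_center ψ⁻¹ h
      have hψz : efn ψ z = z := by
        refine ((H42.mem_zpowers_of_mul_self h₁.zz).1 ?_).resolve_left fun e => h₁.z_ne_one hS ?_
        · have := h₁.comm _ (efn_mem ψ w₁S) _ (efn_mem ψ w₂S)
          rwa [← (homOn_efn ψ).map_conj w₂S w₁S, ← (homOn_efn ψ).map_inv w₁S,
            ← (homOn_efn ψ).map_mul (P.inv_mem w₁S)
              (P.mul_mem (P.mul_mem w₂S w₁S) (P.inv_mem w₂S)), hc12] at this
        · rw [← efn_inv_efn ψ h₁.zT, e, (homOn_efn _).map_one]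
      have hψz' : ∀ y ∈ Subgroup.zpowers z, efn ψ y = y := by
        rintro _ ⟨k, rfl⟩
        simp only
        rw [(homOn_efn ψ).map_zpow h₁.zT, hψz]
      have quo : ∀ {x y a b}, a ∈ P → x * a⁻¹ ∈ centralizerIn P P → y * b⁻¹ ∈ centralizerIn P P →
          x⁻¹ * y * (a⁻¹ * b)⁻¹ ∈ centralizerIn P P := fun {x y a b} ha h1 h2 => by
        have h3 := Subgroup.mul_mem _ (Subgroup.inv_mem _ h1) h2
        have h4 := hZ h3 (P.inv_mem ha)
        rw [show x⁻¹ * y * (a⁻¹ * b)⁻¹ = a⁻¹ * ((x * a⁻¹)⁻¹ * (y * b⁻¹)) * a by group, h4,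
          inv_mul_cancel_right]
        exact h3
      have hun : w₁ * w₂ ∈ Subgroup.normalizer ((centralizerIn P P : Subgroup Ω) : Set Ω) :=
        mem_normalizer_of_conj_mem' (fun y hy => by rwa [hZ hy uS, mul_inv_cancel_right])
          fun y hy => by rwa [mul_assoc, ← hZ hy uS, inv_mul_cancel_left]
      have hD := fun g => H42.mem_sup_zpowers hun (su ▸ h₁.z_center) (g := g)
      have step3 : ∀ x ∈ P, x ∈ centralizerIn P P ⊔ Subgroup.zpowers (w₁ * w₂) →
          x⁻¹ * efn ψ x ∈ centralizerIn P P := fun x hx hx' => by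
        rcases (hD x).1 hx' with h1 | h1
        · exact Subgroup.mul_mem _ (Subgroup.inv_mem _ h1) (hψZ h1)
        · have h2 : efn ψ x * efn ψ x = z := by
            rw [← (homOn_efn ψ).map_mul hx hx, sq' uS h1, su, hψz]
          rcases cls _ (efn_mem ψ hx) with h3 | h3 | h3 | h3
          · exact absurd (h2.symm.trans (sqZ _ h3)) (h₁.z_ne_one hS)
          · exact absurd (h2.symm.trans ((sq' w₁S h3).trans s₁)) (h₁.z_ne_one hS)
          · exact absurd (h2.symm.trans ((sq' w₂S h3).trans s₂)) (h₁.z_ne_one hS)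
          · simpa using quo uS h1 h3
      have := fix_of_chain hS hco (fun i => if i = 0 then ⊥ else if i = 1 then Subgroup.zpowers z
        else if i = 2 then centralizerIn P P else if i = 3 then
          centralizerIn P P ⊔ Subgroup.zpowers (w₁ * w₂) else P) 4
        (fun x _ hx' => by rw [Subgroup.mem_bot.1 hx', (homOn_efn ψ).map_one]) ?_ x hx hx
      · rw [this, inv_mul_cancel]; exact Subgroup.one_mem _
      intro i hi x hx hx'
      obtain rfl | rfl | rfl | rfl : i = 0 ∨ i = 1 ∨ i = 2 ∨ i = 3 := by omega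
      · show _ ∈ (⊥ : Subgroup Ω)
        rw [hψz' x hx', inv_mul_cancel]; exact Subgroup.one_mem _
      · show _ ∈ Subgroup.zpowers z
        have hx'' : x ∈ centralizerIn P P := hx'
        by_cases h1 : x ∈ Subgroup.zpowers z
        · rw [hψz' x h1, inv_mul_cancel]; exact Subgroup.one_mem _
        · obtain ⟨d, hd, hd1, e⟩ := dec x hx'' h1
          obtain ⟨d', hd', hd1', e'⟩ := dec _ (hψZ hx'') fun h2 => h1 (by
            have h3 := congrArg (efn ψ⁻¹) (hψz' _ h2)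
            rw [efn_inv_efn _ (efn_mem _ hx), efn_inv_efn _ hx] at h3
            exact h3 ▸ h2)
          rw [h₁.stay_eq hS hF h₂ hU' hd' hd hd1' hd1] at e'
          have := Subgroup.mul_mem _ (Subgroup.inv_mem _ e) e'
          rwa [mul_inv_rev, inv_inv, mul_assoc, mul_inv_cancel_left] at this
      · exact step3 x hx hx'
      · show _ ∈ centralizerIn P P ⊔ Subgroup.zpowers (w₁ * w₂)
        by_cases h1 : x ∈ centralizerIn P P ⊔ Subgroup.zpowers (w₁ * w₂)
        · exact Subgroup.mem_sup_left (step3 x hx h1)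
        have h2 : ∀ y ∈ P, y ∉ centralizerIn P P → y * y = 1 →
            ∃ a, (a = w₁ ∨ a = w₂) ∧ y * a⁻¹ ∈ centralizerIn P P := fun y hy hy1 hy2 => by
          rcases cls y hy with h3 | h3 | h3 | h3
          · exact absurd h3 hy1
          · exact ⟨_, Or.inl rfl, h3⟩
          · exact ⟨_, Or.inr rfl, h3⟩
          · exact absurd (su.symm.trans ((sq' uS h3).symm.trans hy2)) (h₁.z_ne_one hS)
        have h3 : x ∉ centralizerIn P P := fun h => h1 (Subgroup.mem_sup_left h)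
        have h4 : x * x = 1 := by
          rcases cls x hx with h5 | h5 | h5 | h5
          · exact absurd h5 h3
          · exact (sq' w₁S h5).trans s₁
          · exact (sq' w₂S h5).trans s₂
          · exact absurd ((hD x).2 (Or.inr h5)) h1
        obtain ⟨a, ha, ha'⟩ := h2 x hx h3 h4
        obtain ⟨b, hb, hb'⟩ := h2 _ (efn_mem ψ hx) (fun h => h3 (hψZ' hx h))
          (by rw [← (homOn_efn ψ).map_mul hx hx, h4, (homOn_efn ψ).map_one])
        have h5 := quo (by rcases ha with rfl | rfl <;> assumption) ha' hb'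
        have h6 : a⁻¹ * b ∈ centralizerIn P P ⊔ Subgroup.zpowers (w₁ * w₂) := by
          rcases ha with rfl | rfl <;> rcases hb with rfl | rfl
          · rw [inv_mul_cancel]; exact Subgroup.one_mem _
          · rw [i₁]; exact Subgroup.mem_sup_right (Subgroup.mem_zpowers _)
          · refine Subgroup.mem_sup_right ((Subgroup.inv_mem_iff _).1 ?_)
            rw [mul_inv_rev, inv_inv, i₁]; exact Subgroup.mem_zpowers _
          · rw [inv_mul_cancel]; exact Subgroup.one_mem _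
        exact (Subgroup.mul_mem_cancel_right _ (Subgroup.inv_mem _ h6)).1 (Subgroup.mem_sup_left h5)
    · rcases only P (essential_lt hS hF hP) hP.1 (radical_of_essential hS hP) with rfl | rfl
      · exact Subgroup.mem_sup_left (sup_comm (Subgroup.zpowers w₁) _ ▸ t₁ h₂ hU' ψ hψ x hx)
      · exact (sup_le le_sup_right (le_sup_left.trans le_sup_left) : _ ≤ (_ : Subgroup Ω))
          (t₂ (fun c h1 h2 => hU' c h2 h1) ψ hψ x hx)
  rcases (H42.mem_sup_zpowers (mem_normalizer_of_conj_mem' (hNc _ w₂S) fun x hx => by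
    simpa using hNc _ (S.inv_mem w₂S) x hx) (s₂ ▸ Subgroup.one_mem _)).1 (hE (hfoc hc₀.1))
    with h1 | h1
  · rcases (H42.mem_sup_zpowers (hzn w₁S) (s₁ ▸ Subgroup.one_mem _)).1 h1 with h2 | h2
    · exact hc₀z h2
    · exact n₁ ((Subgroup.inv_mem_iff _).1 ((Subgroup.mul_mem_cancel_left _ hc₀).1 (hzZ h2)))
  · exact hw₂R ((R₁.inv_mem_iff).1 ((R₁.mul_mem_cancel_left (h₁.center_le hc₀)).1
      (sup_le ((Subgroup.zpowers_le).2 h₁.zR) ((Subgroup.zpowers_le).2 w₁R) h1)))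

end Cfsg.Agent.H93
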