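import Cfsg.Agent.H92.Reduce
import Cfsg.Agent.H93.Agemo
import Cfsg.Agent.H61.JWeak

/-! Goldschmidt's factorization `F = ⟨C_F(℧¹(Z(S))), N_F(J(S))⟩`. -/

namespace Cfsg.Agent.H93

open Cfsg Cfsg.FusionSystem Cfsg.Agent.H92
open Cfsg.Agent.H91 hiding mem_opIn_of_chain
open scoped commutatorElement

universe u

theorem isCharPFunctor_thompsonA (p : ℕ) [Fact p.Prime] :
    IsCharPFunctor.{u} p fun Q _ => thompsonSubgroupA Q := by
  refine ⟨fun Q _ _ hQ _ h => ?_, fun Q R _ _ _ _ φ => ?_⟩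
  · obtain ⟨A, hA⟩ := H23.maxAb_nonempty 0 (⊤ : Subgroup Q)
    refine hQ.bot_lt_center.ne' (eq_bot_iff.2 fun x hx => ?_)
    have h' : thompsonSubgroupA Q = ⊥ := h
    rw [← h']
    have hA' : A ≤ thompsonSubgroupA Q := le_sSup (H23.maxAb_zero_top (G := Q) ▸ hA)
    exact hA' (H23.mem_of_mem_centralizer_maxAb hA
      (Subgroup.mem_top x) (pow_zero x) (Subgroup.center_le_centralizer _ hx))
  · show (thompsonSubgroupA Q).map φ.toMonoidHom = thompsonSubgroupA R
    have h1 : (⊤ : Subgroup Q).map φ.toMonoidHom = ⊤ := Subgroup.map_top_of_surjective _ φ.surjective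
    rw [thompsonSubgroupA, thompsonSubgroupA, ← H23.maxAb_zero_top, ← H23.maxAb_zero_top, ← h1,
      H23.maxAb_map φ.injective, (Subgroup.gc_map_comap _).l_sSup, sSup_image]

/-- In a finite `p`-group, if `J ≰ Q` and `V` is a normal abelian subgroup centralizing `Q`, some
element outside `Q` centralizes the `p`-th powers of the elements of `V`. -/
theorem exists_centralizes_pow {G : Type*} [Group G] [Finite G] {p : ℕ} [Fact p.Prime]
    (hG : IsPGroup p G) {Q V : Subgroup G} [V.Normal] (hV : V ≤ Subgroup.centralizer (V : Set G))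
    (hVQ : V ≤ Subgroup.centralizer (Q : Set G)) (h : ¬ thompsonSubgroupA G ≤ Q) :
    ∃ g, g ∉ Q ∧ ∀ v ∈ V, Commute g (v ^ p) := by
  rw [thompsonSubgroupA, ← H23.maxAb_zero_top] at h
  obtain ⟨U, hU, hUQ⟩ := H61.exists_not_le_of_sSup h
  have key : ∃ g, g ∉ Q ∧ ∀ v ∈ V, ∀ k : ℕ, Commute ⁅v, g ^ k⁆ (g ^ k) := by
    by_cases h2 : V ≤ U
    · obtain ⟨g, hg, hg'⟩ := SetLike.not_le_iff_exists.1 hUQ
      refine ⟨g, hg', fun v hv k => ?_⟩
      have : Commute v (g ^ k) :=
        (Subgroup.le_centralizer_iff_isMulCommutative.2 hU.2.1 (U.pow_mem hg k)) v (h2 hv)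
      rw [commutatorElement_eq_one_iff_commute.2 this]
      exact Commute.one_left _
    · obtain ⟨A, hA, -, h3, h4⟩ := H23.exists_maxAb_normalized_top hG (Or.inr rfl) ⊤ V
        (fun _ => Subgroup.le_centralizer_iff_isMulCommutative.1 hV) hU
        ((Subgroup.commutator_eq_bot_iff_le_centralizer.2 hV).le.trans bot_le) h2
      have h5 : ¬ A ≤ Q := fun h5 => h3 fun v hv => H23.mem_of_mem_centralizer_maxAb hA
        (Subgroup.mem_top v) (pow_zero v) (Subgroup.centralizer_le h5 (hVQ hv))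
      obtain ⟨g, hg, hg'⟩ := SetLike.not_le_iff_exists.1 h5
      refine ⟨g, hg', fun v hv k => ?_⟩
      have h6 : ⁅v, g ^ k⁆ ∈ A := by
        rw [commutatorElement_def]
        exact A.mul_mem (conj_mem_of_mem_normalizer (h4 hv) (A.pow_mem hg k))
          (A.inv_mem (A.pow_mem hg k))
      exact (Subgroup.le_centralizer_iff_isMulCommutative.2 hA.2.1 (A.pow_mem hg k)) _ h6
  obtain ⟨g, hg, hc⟩ := key
  obtain ⟨k, h1, h2⟩ := exists_pow_not_mem (p := p) (P := Q) (hG g) hg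
  refine ⟨g ^ k, h1, fun v hv => H61.commute_pow_of_quadratic ?_ (hc v hv k)
    (show v * _ = _ * v from (hVQ hv _ h2).symm)⟩
  have h6 : ⁅v, g ^ k⁆ ∈ V := by
    rw [commutatorElement_def, mul_assoc, mul_assoc, ← mul_assoc (g ^ k)]
    exact V.mul_mem hv (Subgroup.Normal.conj_mem inferInstance _ (V.inv_mem hv) _)
  exact hV hv _ h6

variable {Ω : Type*} [Group Ω] {S : Subgroup Ω} {F : FusionSystem S} {p : ℕ}

theorem exists_centralizes_pow' [Finite S] [Fact p.Prime] (hS : IsPGroup p S) {Q : Subgroup Ω}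
    (hQ : Q ≤ S) (hn : S ≤ Subgroup.normalizer (Q : Set Ω)) (h : ¬ thompsonSubgroupAOf S ≤ Q) :
    ∃ g ∈ S, g ∉ Q ∧ ∀ v ∈ centralizerIn Q Q, Commute g (v ^ p) := by
  haveI : ((centralizerIn Q Q).subgroupOf S).Normal := ⟨fun v hv g => by
    have hv' := mem_centralizerIn.1 (Subgroup.mem_subgroupOf.1 hv)
    refine Subgroup.mem_subgroupOf.2 (mem_centralizerIn.2
      ⟨conj_mem_of_mem_normalizer (hn g.2) hv'.1, fun x hx => ?_⟩)
    have := hv'.2 _ (conj_inv_mem_of_mem_normalizer (hn g.2) hx)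
    simp only [Subgroup.coe_mul, Subgroup.coe_inv]
    calc x * (g * v * (g : Ω)⁻¹) = g * ((g : Ω)⁻¹ * x * g * v) * (g : Ω)⁻¹ := by group
      _ = g * v * (g : Ω)⁻¹ * x := by rw [this]; group⟩
  obtain ⟨g, hg, hc⟩ := exists_centralizes_pow hS (Q := Q.subgroupOf S)
    (V := (centralizerIn Q Q).subgroupOf S)
    (fun v hv w hw => Subtype.ext ((mem_centralizerIn.1 (Subgroup.mem_subgroupOf.1 hv)).2 _
      (mem_centralizerIn.1 (Subgroup.mem_subgroupOf.1 hw)).1))
    (fun v hv w hw => Subtype.ext ((mem_centralizerIn.1 (Subgroup.mem_subgroupOf.1 hv)).2 _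
      (Subgroup.mem_subgroupOf.1 hw)))
    (fun h' => h (Subgroup.map_le_iff_le_comap.2 h'))
  refine ⟨g, g.2, hg, fun v hv => ?_⟩
  have := hc ⟨v, hQ hv.1⟩ hv
  exact congrArg Subtype.val this

theorem thompsonSubgroupAOf_eq_of_le [Finite S] {Q : Subgroup Ω} (hQ : Q ≤ S)
    (h : thompsonSubgroupAOf S ≤ Q) : thompsonSubgroupAOf Q = thompsonSubgroupAOf S := by
  obtain ⟨A', hA'⟩ := H23.maxAb_nonempty 0 (⊤ : Subgroup S)
  have hA : A'.map S.subtype ∈ H23.maxAb 0 S := by
    rw [H23.maxAb_eq_image_top]; exact ⟨A', hA', rfl⟩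
  rw [H23.thompsonSubgroupAOf_eq, H23.thompsonSubgroupAOf_eq] at *
  exact le_antisymm (sSup_le_sSup (H23.maxAb_subset_of_le hA ((le_sSup hA).trans h) hQ))
    (sSup_le_sSup fun B hB => H23.mem_maxAb_of_le hB ((le_sSup hB).trans h) hQ)

/-- If `K` is normal with `Aut_F(K)` a `p`-group, a subsystem over `S` with the same factor system
modulo `K` is everything. -/
theorem sub_of_fac [Finite S] [Fact p.Prime] (hS : IsPGroup p S) (hF : F.IsSaturated p)
    {Ω' : Type*} [Group Ω'] {S' : Subgroup Ω'} {E E' : FusionSystem S'} {θ : S →* Ω'}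
    {F' : FusionSystem S} (hF' : F'.IsSubsystemOf F) (hE : Fac F E θ) (hE' : Fac F' E' θ)
    (hK : F.IsNormal (preimageAlong θ ⊥)) (hA : IsPGroup p (F.autGroup (preimageAlong θ ⊥)))
    (h : E.IsSubsystemOf E') : ∀ P f, M F P f → M F' P f := by
  have hKs := stronglyClosed_of_normal hK
  refine alperin_ind hS hF F' fun P _ hc hr _ α hα => ?_
  have hP : P ≤ S := hc.1
  haveI := finite_of_le hP
  have hKP := normal_le_centric_radical hS hK hc hr
  obtain ⟨f', hf', e⟩ := hE.desc hKs ((mem_autGroup_iff hP).1 hα) hKP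
  obtain ⟨g, hg, e'⟩ := hE'.lift (hf'.of_sub h)
  rw [pre_im_of_le hP hKP] at hg e'
  have h1 : ∀ x ∈ P, (g x)⁻¹ * efn α x ∈ preimageAlong θ ⊥ := fun x hx =>
    (fn_eq_iff (hg.mem hx) (hP (efn_mem α hx))).1 ((e' x hx).symm.trans (e x hx))
  have h2 : ∀ x ∈ P, g x ∈ P := fun x hx => by
    have := P.mul_mem (efn_mem α hx) (P.inv_mem (hKP (h1 x hx)))
    simpa using this
  obtain ⟨β, hβ, eβ⟩ := hg.exists_aut (hg.im_eq_self h2)
  have hβF := autGroup_mono hF' P hβ
  have h3 : α * β⁻¹ ∈ opIn p (F.autGroup P) := by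
    refine H91.mem_opIn_of_chain (isPGroup_of_le hS hP)
      (fun i => if i = 0 then preimageAlong θ ⊥ else P) 1 ?_ (by simp) ?_
      (Subgroup.mul_mem _ hα (Subgroup.inv_mem _ hβF)) ?_
    · intro i γ hγ x hx hx'
      by_cases hi : i = 0
      · simp only [hi, if_true] at hx' ⊢
        exact ((mem_autGroup_iff hP).1 hγ).mem_of_stronglyClosed hKs hx hx'
      · simp only [hi, if_false]; exact efn_mem γ hx
    · intro γ hγ hco x _ hx
      simp only [if_true] at hx
      exact fix_of_aut_isPGroup hS hK hA hKP hP hγ hco hx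
    · intro i hi x hx _
      obtain rfl : i = 0 := by omega
      simp only [if_true]
      have := h1 _ (efn_mem β⁻¹ hx)
      rwa [← eβ _ (efn_mem β⁻¹ hx), ← efn_mul _ _ hx, mul_inv_cancel, efn_one hx,
        ← efn_mul _ _ hx] at this
  rw [radical_opIn hr] at h3
  have h4 := (F'.autGroup P).mul_mem (Inn_le_autGroup F' hP h3) hβ
  rw [inv_mul_cancel_right] at h4
  exact (mem_autGroup_iff hP).1 h4

/-- Goldschmidt's factorization for fusion systems. -/
theorem gold_ctrl {p : ℕ} [hp : Fact p.Prime] (Ω : Type u) [Group Ω] (S : Subgroup Ω) [Finite S]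
    (F : FusionSystem S) : IsPGroup p S → F.IsSaturated p →
    ∀ (U : Subgroup Ω) (G : FusionSystem U), S ≤ U →
      (∀ P f, M F P f → (∀ z ∈ centralizerIn S S, z ^ p ∈ P ∧ f (z ^ p) = z ^ p) → M G P f) →
      (∀ P f, NM F (thompsonSubgroupAOf S) P f → M G P f) → F.IsSubsystemOf G := by
  refine fs_ind (C := fun Ω _ S _ F => IsPGroup p S → F.IsSaturated p →
    ∀ (U : Subgroup Ω) (G : FusionSystem U), S ≤ U →
      (∀ P f, M F P f → (∀ z ∈ centralizerIn S S, z ^ p ∈ P ∧ f (z ^ p) = z ^ p) → M G P f) →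
      (∀ P f, NM F (thompsonSubgroupAOf S) P f → M G P f) → F.IsSubsystemOf G) ?_ Ω S F
  intro Ω _ S _ F ih1 ih2 hS hF U G hSU hC hN
  have hW := isCharPFunctor_thompsonA.{u} p
  have hw : Fctr F thompsonSubgroupAOf := fctr_induced hS F hW
  have hsub : ∀ (T : Subgroup Ω) [Finite T] (E : FusionSystem T), E.IsSaturated p →
      E.IsSubsystemOf F → ¬ F.IsSubsystemOf E → centralizerIn S S ≤ T →
      (∀ P f, NM E (thompsonSubgroupAOf T) P f → M G P f) → E.IsSubsystemOf G :=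
    fun T _ E hE hEF hne hZ h => ih1 T E hEF hne (isPGroup_of_le hS (le_of_isSubsystemOf hEF)) hE
      U G ((le_of_isSubsystemOf hEF).trans hSU) (fun P f hf hz => hC P f (hf.of_sub hEF)
        fun z hz' => hz z (mem_centralizerIn.2 ⟨hZ hz', fun y hy =>
          (mem_centralizerIn.1 hz').2 y (le_of_isSubsystemOf hEF hy)⟩)) h
  have hQ := H91.core_normal F
  have hQs := stronglyClosed_of_normal hQ
  have hQn := le_normalizer_of_stronglyClosed hQs
  rcases reduce hS hF hw hN hsub (induced_ne_bot hS hW) hSU with h | ⟨h1, h | ⟨h2, h3⟩⟩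
  · exact h
  · have hcon : centralizerIn S F.core ≤ F.core := (constrained_iff.1 h).2
    by_cases hJ : thompsonSubgroupAOf S ≤ F.core
    · have h4 : F.IsNormal (thompsonSubgroupAOf S) := by
        refine normal_of_invariant hQ hJ fun α hα x hx => ?_
        have h5 := (mem_autGroup_iff hQ.1).1 hα
        have h6 := hw.2 _ _ h5
        rw [h5.im_eq_self fun y hy => efn_mem α hy, thompsonSubgroupAOf_eq_of_le hQ.1 hJ] at h6
        exact h6 ▸ mem_im_of_mem _ hx
      exact isSubsystemOf_iff_M.2 fun P f hf => hN P f ((isNormal_iff_NM.1 h4).2 P f hf)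
    obtain ⟨g, hg, hgQ, hc⟩ := exists_centralizes_pow' hS hQ.1 hQn hJ
    set V := powerClosure p 1 (F.core ⊓ Subgroup.centralizer (F.core : Set Ω)) with hV
    have hmem : ∀ y, y ∈ V ↔ ∃ x ∈ centralizerIn F.core F.core, y = x ^ p := fun y => by
      rw [hV, mem_powerClosure_abelian (center_comm _), pow_one]; rfl
    have hVQ : V ≤ F.core := fun y hy => by
      obtain ⟨x, hx, rfl⟩ := (hmem y).1 hy
      exact Subgroup.pow_mem _ hx.1 _
    have hVn : F.IsNormal V := normal_of_invariant hQ hVQ fun α _ y hy => by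
      obtain ⟨x, hx, rfl⟩ := (hmem y).1 hy
      exact (hmem _).2 ⟨efn α x, efn_mem_center α hx, (homOn_efn α).map_pow hx.1 p⟩
    have hsc := sc_sup_centralizer hS hF (stronglyClosed_of_normal hVn)
    have h4 := reduce_norm hS hF hw hN hsub hsc.1 (le_normalizer_of_stronglyClosed hsc)
      fun h' => hgQ (H91.le_core h' (le_sup_right (a := V) (mem_centralizerIn.2 ⟨hg, fun y hy => by
        obtain ⟨x, hx, rfl⟩ := (hmem y).1 hy
        exact (hc x hx).symm⟩)))
    refine isSubsystemOf_iff_M.2 fun P f hf => ?_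
    obtain ⟨k, l, hk, hl, e, e'⟩ := stancu hS hF hVn hf
    have h5 : M G (im k P ⊔ V) l := hC _ _ hl fun z hz => by
      have : z ^ p ∈ V := (hmem _).2 ⟨z, mem_centralizerIn.2 ⟨hcon (mem_centralizerIn.2
        ⟨hz.1, fun y hy => (mem_centralizerIn.1 hz).2 y (hQ.1 hy)⟩), fun y hy =>
          (mem_centralizerIn.1 hz).2 y (hQ.1 hy)⟩, rfl⟩
      exact ⟨le_sup_right (a := im k P) this, e _ this⟩
    exact (h5.comp (h4 P k hk) fun x hx => le_sup_left (b := V) (mem_im_of_mem k hx)).congr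
      fun x hx => (e' x hx).symm
  · by_cases hZ : ∀ z ∈ centralizerIn S S, z ^ p ∈ F.core
    · refine isSubsystemOf_iff_M.2 fun P f hf => ?_
      obtain ⟨g, hg, e, -⟩ := normal_extend hQ hf
      obtain ⟨s, hs, e'⟩ := conj_of_aut_isPGroup hS hF hQ h3 hg
      refine ((hC _ _ hg fun z hz => ⟨le_sup_right (a := P) (hZ z hz), ?_⟩).restrict
        le_sup_left).congr e
      rw [e' _ (le_sup_right (a := P) (hZ z hz)) (hZ z hz),
        (mem_centralizerIn.1 (Subgroup.pow_mem _ hz p)).2 s hs, mul_inv_cancel_right]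
    obtain ⟨Ω', _, S', _, E, θ, hE, hK, hS', hE'⟩ := exists_quot hS hF hQs
    have hn := hK ▸ hQ
    have hw' : Fctr E thompsonSubgroupAOf := fctr_induced hS' E hW
    have hF' := genSub_isSubsystemOf F le_rfl (M G)
    obtain ⟨E', hE''⟩ := exists_fac (F := genSub F le_rfl (M G)) (θ := θ) (S' := S')
      (by have := stronglyClosed_sub hF' (hK ▸ hQs)
          rwa [inf_eq_left.2 (pre_le θ ⊥)] at this) hE.range_eq
    have lift : ∀ {X' : Subgroup Ω'}, X' ≤ S' → X' ≠ ⊥ → S' ≤ Subgroup.normalizer (X' : Set Ω') →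
        ∀ P' f', NM E X' P' f' → M E' P' f' := fun {X'} hX hX1 hXn P' f' hf' => by
      obtain ⟨f, hf, e⟩ := Fac.lift_NM hE hf'
      have h5 := reduce_norm hS hF hw hN hsub (pre_le θ _) (Fac.le_normalizer_pre hE hXn)
        (fun h' => Fac.pre_not_le hE hX hX1 (hK ▸ H91.le_core h')) _ _ hf
      have h6 := hE''.of_induced (M_genSub_of_gen le_rfl h5 hf.toM (pre_le θ _)
        fun x hx => hf.toM.mem hx) (pre_mono θ bot_le) e
      rwa [hE.im_pre hf'.toM.le] at h6
    have h4 := ih2 Ω' S' E (Fac.card_lt hE (hK ▸ h1)) hS' hE' S' E' le_rfl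
      (fun P' f' hf' hz0 => ?_) (lift (hw'.le _ le_rfl) (induced_ne_bot hS' hW S' le_rfl
        (Fac.ne_bot hE (hK ▸ h2))) hw'.le_normalizer)
    · exact isSubsystemOf_iff_M.2 fun P f hf => (sub_of_fac hS hF hF' hE hE'' hn (hK ▸ h3) h4 P f
        hf).of_sub (genSub_le le_rfl hSU fun R h h' _ => h')
    push Not at hZ
    obtain ⟨z, hz, hzQ⟩ := hZ
    have hz' : fn θ z ∈ centralizerIn S' S' := mem_centralizerIn.2 ⟨hE.fn_mem hz.1, fun y hy => by
      obtain ⟨x, hx', rfl⟩ := hE.exists_rep hy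
      rw [← fn_mul hx' hz.1, ← fn_mul hz.1 hx', (mem_centralizerIn.1 hz).2 x hx']⟩
    have hx := Subgroup.pow_mem _ hz' p
    have hX : Subgroup.zpowers (fn θ z ^ p) ≤ centralizerIn S' S' := (Subgroup.zpowers_le).2 hx
    have hXc : S' ≤ centralizerIn S' (Subgroup.zpowers (fn θ z ^ p)) := fun g hg =>
      mem_centralizerIn.2 ⟨hg, fun y hy => ((mem_centralizerIn.1 (hX hy)).2 g hg).symm⟩
    refine lift (hX.trans (centralizerIn_le _ _)) (fun h' => hzQ ?_)
      (fun g hg => (centralizerIn_le_normalizerIn _ _ (hXc hg)).2) P' f'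
      (CM.toNM (hf'.toCM ((Subgroup.zpowers_le).2 (hz0 _ hz').1) ?_ le_rfl (hf'.le.trans hXc)))
    · rw [← hK, mem_pre_bot]
      exact ⟨Subgroup.pow_mem _ hz.1 p, ((homOn_fn θ).map_pow hz.1 p).trans
        (Subgroup.zpowers_eq_bot.1 h')⟩
    · rintro _ ⟨n, rfl⟩
      simp only
      rw [hf'.homOn.map_zpow (hz0 _ hz').1, (hz0 _ hz').2]

end Cfsg.Agent.H93
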