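import Cfsg.Agent.H93.Closed
import Cfsg.Agent.H91.Normal
import Cfsg.Agent.H94.BCGLO2

/-!
# `p`-stable fusion systems
-/

namespace Cfsg.Agent.H93

open Cfsg Cfsg.FusionSystem Cfsg.Agent.H91

variable {Ω : Type*} [Group Ω] {S : Subgroup Ω} {F : FusionSystem S} {p : ℕ}

/-- `χ` acts quadratically. -/
def Quad {G : Type*} [Group G] (χ : MulAut G) : Prop := ∀ a, χ a⁻¹ * a * χ a⁻¹ * χ (χ a) = 1

theorem quad_iff {G : Type*} [Group G] {χ : MulAut G} :
    Quad χ ↔ ∀ a, χ (a⁻¹ * χ a) = a⁻¹ * χ a := by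
  refine forall_congr' fun a => ?_
  rw [map_mul, eq_comm (b := a⁻¹ * χ a), ← inv_mul_eq_one (a := a⁻¹ * χ a), map_inv]
  simp only [mul_inv_rev, inv_inv, mul_assoc]

theorem Quad.pow_apply {G : Type*} [Group G] {χ : MulAut G} (h : Quad χ) (a : G) (k : ℕ) :
    (χ ^ k) a = a * (a⁻¹ * χ a) ^ k := by
  induction k with
  | zero => simp
  | succ k ih => rw [pow_succ', MulAut.mul_apply, ih, map_mul, map_pow, quad_iff.1 h, pow_succ',
      mul_assoc, mul_inv_cancel_left]

theorem Quad.congr {G H : Type*} [Group G] [Group H] {χ : MulAut G} (h : Quad χ) (e : G ≃* H) :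
    Quad (MulAut.congr e χ) := fun a => by
  simpa using congrArg e (h (e.symm a))

theorem Quad.isPGroup {G : Type*} [Group G] [Finite G] [Fact p.Prime] (hG : IsPGroup p G)
    {χ : MulAut G} (h : Quad χ) : IsPGroup p (Subgroup.zpowers χ) := by
  obtain ⟨n, hn⟩ := hG.exists_card_eq
  exact isPGroup_zpowers_of_pow ⟨n, MulEquiv.ext fun a => by
    rw [h.pow_apply, ← hn, pow_card_eq_one', mul_one]; rfl⟩

/-- `p`-stability at the subgroup `Q`. -/
def PS (F : FusionSystem S) (p : ℕ) (Q : Subgroup Ω) : Prop :=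
  ∀ χ ∈ F.autGroup Q, Quad χ → χ ∈ opIn p (F.autGroup Q)

theorem PS.of_isConj {P Q : Subgroup Ω} (h : PS F p Q) (hc : F.IsConj P Q) : PS F p P := by
  obtain ⟨f, hf, e⟩ := isConj_iff.1 hc
  intro χ hχ hq
  have he := hf.efn_equiv_M e
  have := H94.congr_mem_opIn he.efn_symm (h _ (mem_autGroup_congr he hχ) (hq.congr _))
  convert this using 1
  ext x
  simp

theorem ps_all [Finite S] (h : ∀ Q, F.IsFullyNormalized Q → PS F p Q) {Q : Subgroup Ω}
    (hQ : Q ≤ S) : PS F p Q := by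
  obtain ⟨R, hc, hR⟩ := exists_fullyNormalized F hQ
  exact (h R hR).of_isConj hc

theorem PS.sub {T Q : Subgroup Ω} {E : FusionSystem T} (hE : E.IsSubsystemOf F) (h : PS F p Q) :
    PS E p Q := fun χ hχ hq =>
  le_opIn (N := opIn p (F.autGroup Q) ⊓ E.autGroup Q) ((isPGroup_opIn p _).to_inf_left)
    inf_le_right (fun _ ha _ hn => ⟨conj_mem_opIn (autGroup_mono hE Q ha) hn.1,
      Subgroup.mul_mem _ (Subgroup.mul_mem _ ha hn.2) (Subgroup.inv_mem _ ha)⟩)
    ⟨h χ (autGroup_mono hE Q hχ) hq, hχ⟩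

theorem ps_of_isCyclic [Fact p.Prime] {Q : Subgroup Ω} [Finite Q] (hQ : IsPGroup p Q)
    (hc : IsCyclic Q) : PS F p Q := fun χ hχ hq => by
  refine le_opIn (hq.isPGroup hQ) ((Subgroup.zpowers_le).2 hχ) (fun a _ n hn => ?_)
    (Subgroup.mem_zpowers χ)
  have : a * n = n * a := (IsCyclic.mulAutMulEquiv Q).injective (by rw [map_mul, map_mul, mul_comm])
  rwa [this, mul_inv_cancel_right]

open scoped commutatorElement in
theorem quad_cjAut_iff {P : Subgroup Ω} {g : Ω} (hg : g ∈ Subgroup.normalizer (P : Set Ω)) :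
    Quad (cjAut P g hg) ↔ ⁅⁅P, Subgroup.zpowers g⁆, Subgroup.zpowers g⁆ = ⊥ := by
  rw [Subgroup.commutator_eq_bot_iff_le_centralizer, Subgroup.zpowers_eq_closure,
    Subgroup.centralizer_closure, ← Subgroup.zpowers_eq_closure, Subgroup.commutator_le]
  constructor
  · rintro h a ha _ ⟨k, rfl⟩
    have h1 : ∀ b ∈ P, ⁅b, g⁆ ∈ Subgroup.centralizer {g} := fun b hb => by
      have := congrArg Subtype.val (quad_iff.1 h ⟨b⁻¹, P.inv_mem hb⟩)
      simp only [coe_cjAut_apply, Subgroup.coe_mul, Subgroup.coe_inv, inv_inv] at this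
      rw [Subgroup.mem_centralizer_singleton_iff, commutatorElement_def]
      rw [mul_inv_eq_iff_eq_mul] at this
      simpa [mul_assoc] using this.symm
    have hgC : g ∈ Subgroup.centralizer {g} := Subgroup.mem_centralizer_singleton_iff.2 rfl
    induction k using Int.induction_on with
    | zero => simp
    | succ n ih =>
      have : ⁅a, g ^ ((n : ℤ) + 1)⁆ = ⁅a, g ^ (n : ℤ)⁆ * (g ^ (n : ℤ) * ⁅a, g⁆ * (g ^ (n : ℤ))⁻¹) := by
        simp only [commutatorElement_def]; group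
      simp only [this]
      exact Subgroup.mul_mem _ ih (Subgroup.mul_mem _ (Subgroup.mul_mem _ (zpow_mem hgC _)
        (h1 a ha)) (Subgroup.inv_mem _ (zpow_mem hgC _)))
    | pred n ih =>
      have : ⁅a, g ^ (-(n : ℤ) - 1)⁆ = ⁅a, g ^ (-(n : ℤ))⁆ *
          (g ^ (-(n : ℤ) - 1) * ⁅a, g⁆⁻¹ * (g ^ (-(n : ℤ) - 1))⁻¹) := by
        simp only [commutatorElement_def]; group
      simp only [this]
      exact Subgroup.mul_mem _ ih (Subgroup.mul_mem _ (Subgroup.mul_mem _ (zpow_mem hgC _)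
        (Subgroup.inv_mem _ (h1 a ha))) (Subgroup.inv_mem _ (zpow_mem hgC _)))
  · intro h
    refine quad_iff.2 fun a => Subtype.ext ?_
    have := Subgroup.mem_centralizer_singleton_iff.1
      (h _ (P.inv_mem a.2) _ (Subgroup.mem_zpowers g))
    simp only [coe_cjAut_apply, Subgroup.coe_mul, Subgroup.coe_inv]
    rw [mul_inv_eq_iff_eq_mul]
    simpa [commutatorElement_def, mul_assoc] using this.symm

end Cfsg.Agent.H93
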