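import Cfsg.Agent.H93.Closed
import Cfsg.Agent.H91.Normal
import Cfsg.Agent.H91.Norm
import Cfsg.Agent.H91.Inv
import Cfsg.Agent.H61.Small

/-!
# Abelian subgroups of small exponent control fusion
-/

namespace Cfsg.Agent.H93

open Cfsg Cfsg.FusionSystem Cfsg.Agent.H91

variable {Ω : Type*} [Group Ω] {S : Subgroup Ω} {F : FusionSystem S} {p : ℕ}

open scoped commutatorElement in
theorem exists_small_abelian {G : Type*} [Group G] [Finite G] [Fact p.Prime] (hG : IsPGroup p G) :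
    ∃ A : Subgroup G, A.Normal ∧ (∀ a ∈ A, ∀ b ∈ A, a * b = b * a) ∧
      (∀ a ∈ A, a ^ H61.smExp p = 1) ∧
      ∀ δ : MulAut G, (orderOf δ).Coprime p → (∀ a ∈ A, δ a = a) → δ = 1 := by
  obtain ⟨D, hD, h1, h2, h3⟩ := H61.exists_small_critical hG
  obtain ⟨A, ⟨hAD, hA⟩, hmax⟩ := exists_maximal_ge_of_wellFoundedGT
    (fun A : Subgroup G => A ≤ D ∧ ∀ a ∈ A, ∀ b ∈ A, a * b = b * a) ⊥
    ⟨bot_le, by simp⟩ |>.imp fun _ h => h.2
  have hC : ∀ x ∈ D, (∀ a ∈ A, a * x = x * a) → x ∈ A := fun x hx h => by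
    have e1 : A ⊔ Subgroup.zpowers x ≤ Subgroup.centralizer (A : Set G) :=
      sup_le (fun b hb a ha => hA a ha b hb) ((Subgroup.zpowers_le).2 h)
    have e2 : A ⊔ Subgroup.zpowers x ≤ Subgroup.centralizer {x} :=
      sup_le (fun a ha => Subgroup.mem_centralizer_singleton_iff.2 (h a ha))
        ((Subgroup.zpowers_le).2 (Subgroup.mem_centralizer_singleton_iff.2 rfl))
    have e3 : A ⊔ Subgroup.zpowers x ≤
        Subgroup.centralizer ((A ⊔ Subgroup.zpowers x : Subgroup G) : Set G) :=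
      sup_le (Subgroup.le_centralizer_iff.1 e1) ((Subgroup.zpowers_le).2 fun a ha =>
        Subgroup.mem_centralizer_singleton_iff.1 (e2 ha))
    exact hmax ⟨sup_le hAD ((Subgroup.zpowers_le).2 hx), fun a ha b hb => e3 hb a ha⟩ le_sup_left
      (Subgroup.mem_sup_right (Subgroup.mem_zpowers x))
  refine ⟨A, ⟨fun a ha g => ?_⟩, hA, fun a ha => h1 a (hAD ha), fun δ hδ h => h3 δ hδ fun d hd => ?_⟩
  · have hc := Subgroup.commutator_mem_commutator (hAD ha) (Subgroup.mem_top g)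
    have := A.mul_mem (A.inv_mem (hC _ (Subgroup.commutator_le_left D ⊤ hc)
      fun b hb => h2 hc b (hAD hb))) ha
    simpa [commutatorElement_def, mul_assoc] using this
  · have := H4.mulAut_eq_one_of_centralizer_le (hG.to_subgroup D) (MulAut.characteristic D δ)
      (H4.coprime_orderOf_map _ hδ) (A.subgroupOf D)
      (fun x hx => hC x x.2 fun a ha => congrArg Subtype.val (hx ⟨a, hAD ha⟩ ha))
      fun x hx => Subtype.ext (h x hx)
    exact congrArg Subtype.val (DFunLike.congr_fun this (⟨d, hd⟩ : D))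

variable [Finite S] [Fact p.Prime] (hS : IsPGroup p S) (hF : F.IsSaturated p)
include hS hF

/-- If `Aut_F(Q)` is a `p`-group, the maps on `Q` are generated by maps on larger subgroups. -/
theorem M_of_aut_isPGroup {U : Subgroup Ω} {D : FusionSystem U} (hSU : S ≤ U) {Q : Subgroup Ω}
    (hp : IsPGroup p (F.autGroup Q))
    (ih : ∀ (R : Subgroup Ω) f, Nat.card Q < Nat.card R → M F R f → M D R f) {f : Ω → Ω}
    (hf : M F Q f) : M D Q f := by
  obtain ⟨V, hc, hV⟩ := exists_fullyNormalized F hf.le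
  have key : ∀ R, F.IsConj R V → ∃ g, M F R g ∧ M D R g ∧ im g R = V := fun R hR => by
    have hRS := isConj_le_left hR
    rcases hRS.lt_or_eq with h | rfl
    · obtain ⟨g, hg, e, -⟩ := sat_exists_map_normalizer hS hF hR hV
      haveI := finite_normalizerIn (S := S) R
      exact ⟨g, hg.restrict (le_normalizerIn hRS), (ih _ g (by
        rw [← isConj_card hc, isConj_card hR]; exact card_lt_of_lt (lt_normalizerIn hS h))
        hg).restrict (le_normalizerIn hRS), e⟩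
    · exact ⟨_, M.id F le_rfl, M.id D hSU, by
        rw [im_id]; exact (eq_of_le_of_card_le hV.1 (isConj_card hR).ge).symm⟩
  obtain ⟨g₁, a₁, b₁, e₁⟩ := key Q hc
  obtain ⟨g₂, a₂, b₂, e₂⟩ := key _ (isConj_trans (isConj_symm hf.isConj) hc)
  obtain ⟨k₁, c₁, i₁, l₁, m₁, -⟩ := a₁.exists_inv' e₁
  obtain ⟨k₂, c₂, -, l₂, -, -⟩ := b₂.exists_inv' e₂
  have h1 := a₂.comp (hf.comp c₁ m₁) fun y hy => mem_im_of_mem f (m₁ y hy)
  obtain ⟨δ, hδ, e⟩ := h1.exists_aut (h1.im_eq_self fun y hy =>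
    e₂ ▸ mem_im_of_mem g₂ (mem_im_of_mem f (m₁ y hy)))
  have h2 := (sat_sylIn hS hF hV).eq_of_le (hp.of_equiv (autCongr (a₁.efn_equiv_M e₁)))
    (autInducedBy_le_autGroup F hV.1) le_rfl
  obtain ⟨t, ht, e'⟩ := mem_autInducedBy_iff'.1 (h2.le hδ)
  have hm : ∀ x ∈ Q, g₁ x ∈ V := fun x hx => e₁ ▸ mem_im_of_mem g₁ hx
  refine (c₂.comp (b₁.conj_comp (hSU ht.1)) fun x hx =>
    conj_mem_of_mem_normalizer ht.2 (hm x hx)).congr fun x hx => ?_
  simp only [← e' _ (hm x hx), e _ (hm x hx), l₁ x hx, l₂ _ (mem_im_of_mem f hx)]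

theorem eq_of_small_abelian {E : FusionSystem S} (hE : E.IsSaturated p) (hEF : E.IsSubsystemOf F)
    (h : ∀ A f, (∀ a ∈ A, ∀ b ∈ A, a * b = b * a) → (∀ a ∈ A, a ^ H61.smExp p = 1) →
      M F A f → M E A f) : ∀ Q f, M F Q f → M E Q f := by
  suffices ∀ Q, Q ≤ S → ∀ f, M F Q f → M E Q f from fun Q f hf => this Q hf.le f hf
  refine downward_induction fun Q hQ ih f hf => ?_
  haveI := finite_of_le hQ
  obtain ⟨A₀, hn, h1, h2, h3⟩ := exists_small_abelian (isPGroup_of_le hS hQ)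
  have hAQ : A₀.map Q.subtype ≤ Q := Subgroup.map_subtype_le _
  have hQA : Q ≤ Subgroup.normalizer ((A₀.map Q.subtype : Subgroup Ω) : Set Ω) :=
    (Subgroup.normal_subgroupOf_iff_le_normalizer hAQ).1 (by
      rwa [Subgroup.subgroupOf, Subgroup.comap_map_eq_self_of_injective Q.subtype_injective])
  have h1' : ∀ a ∈ A₀.map Q.subtype, ∀ b ∈ A₀.map Q.subtype, a * b = b * a := by
    rintro _ ⟨a, ha, rfl⟩ _ ⟨b, hb, rfl⟩; exact congrArg Subtype.val (h1 a ha b hb)
  have h2' : ∀ a ∈ A₀.map Q.subtype, a ^ H61.smExp p = 1 := by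
    rintro _ ⟨a, ha, rfl⟩; exact congrArg Subtype.val (h2 a ha)
  have h3' : ∀ δ : MulAut Q, (orderOf δ).Coprime p → (∀ a ∈ A₀.map Q.subtype, efn δ a = a) →
      δ = 1 := fun δ hδ e => h3 δ hδ fun a ha =>
    Subtype.ext ((efn_coe δ a).symm.trans (e a ⟨a, ha, rfl⟩))
  generalize A₀.map Q.subtype = A at hAQ hQA h1' h2' h3'
  clear h1 h2 h3 hn A₀
  have hfA := hf.restrict hAQ
  obtain ⟨V, hc, hV⟩ := exists_fullyNormalized F hfA.im_le
  have hVE := fullyNormalized_sub hS hF hEF (sc_top F) hV.1 hV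
  have hcE : E.IsConj (im f A) V := by
    obtain ⟨g, hg, e⟩ := isConj_iff.1 hc
    refine isConj_iff.2 ⟨g, h _ g (fun a ha b hb => ?_) (fun a ha => ?_) hg, e⟩
    · obtain ⟨a, ha', rfl⟩ := (hfA.mem_im le_rfl).1 ha
      obtain ⟨b, hb', rfl⟩ := (hfA.mem_im le_rfl).1 hb
      rw [← hfA.map_mul ha' hb', ← hfA.map_mul hb' ha', h1' a ha' b hb']
    · obtain ⟨a, ha', rfl⟩ := (hfA.mem_im le_rfl).1 ha
      rw [← hfA.homOn.map_pow ha', h2' a ha', hfA.map_one]
  obtain ⟨g, hg, eg, -⟩ := sat_exists_map_normalizer hS hE hcE hVE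
  have hm : ∀ x ∈ Q, f x ∈ normalizerIn S (im f A) := fun x hx =>
    hf.map_mem_normalizer hAQ hx (hQA hx)
  have hw := (hg.of_sub hEF).comp hf hm
  have hwA : im (fun x => g (f x)) A = V := by rw [← hfA.homOn.im_im, eg]
  obtain ⟨u, hu, eu⟩ := (h A _ h1' h2' (hw.restrict hAQ)).extend hwA (sat_receptive' hS hE hVE)
    (R := Q) fun x hx => ⟨⟨hQ hx, hQA hx⟩, _, hw.mem hx, fun y hy => hw.map_conj hx (hAQ hy)⟩
  rw [sup_of_le_right hAQ] at hu
  have huA : im u A = V := (im_congr eu).trans hwA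
  have huF := hu.of_sub hEF
  obtain ⟨k, hk, lk, mk, rk⟩ := huF.exists_inv
  have hVQ : V ≤ im u Q := huA ▸ im_mono u hAQ
  have hT : im u Q ≤ normK S (autInducedBy S V) := im_le_iff.2 fun x hx => by
    have := hu.map_mem_normalizer hAQ hx (hQA hx)
    rw [huA] at this
    exact mem_normK.2 ⟨this.1, (restrIn_conj_iff this.2).2 (cjAut_mem_autInducedBy this.1 _)⟩
  haveI := finite_of_le (normK_le S (autInducedBy S V))
  have hsat := kNorm_saturated (K := autInducedBy S V) hS hF (sat_receptive' hS hF hV)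
    (by rw [inf_idem, inf_of_le_right (autInducedBy_le_autGroup F hV.1)]
        exact sylIn_self (isPGroup_autInducedBy hS V)) rfl fun _ _ => M_kNormFS hV.1
  haveI := finite_autGroup (kNormFS F hV.1 (autInducedBy S V)) hT
  haveI := finite_mulAut hu.im_le
  have hγ : M E (im u Q) fun y => g (f (k y)) := by
    refine M_of_aut_isPGroup (isPGroup_of_le hS (normK_le _ _)) hsat (normK_le _ _)
      (isPGroup_of_forall_coprime_eq_one fun δ hδ hc => ?_) (fun R f' hR hf' => ?_)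
      ((M_kNormFS hV.1).2 ((hw.comp hk mk).toKM hVQ (restrIn_of_fix _ fun y hy => ?_) le_rfl hT))
    · obtain ⟨-, g', -, e1, κ, hκ, e2⟩ := (M_kNormFS hV.1).1 ((mem_autGroup_iff hT).1 hδ)
      have e3 : ∀ x ∈ V, efn δ x = efn κ x := fun x hx => (e1 x (hVQ hx)).symm.trans (e2 x hx)
      obtain ⟨n, hn⟩ := pow_eq_one_of_mem_isPGroup (isPGroup_autInducedBy hS V) hκ
      have hκ1 : κ = 1 := orderOf_eq_one_iff.1 (Nat.Coprime.eq_one_of_dvd
        ((hc.coprime_dvd_left (orderOf_dvd_of_pow_eq_one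
          (pow_orderOf_eq_one_of_extends hVQ e3))).pow_right n) (orderOf_dvd_of_pow_eq_one hn))
      have := h3' ((MulAut.congr (hu.equiv rfl)).symm δ) (by rwa [MulEquiv.orderOf_eq])
        fun a ha => by
          have e4 := efn_congr (hu.equiv rfl) ((MulAut.congr (hu.equiv rfl)).symm δ) (hAQ ha)
          have haV : u a ∈ V := huA ▸ mem_im_of_mem u ha
          rw [MulEquiv.apply_symm_apply, hu.efn_equiv rfl (hAQ ha),
            hu.efn_equiv rfl (efn_mem _ (hAQ ha)), e3 _ haV, hκ1, efn_one haV] at e4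
          exact hu.injOn (efn_mem _ (hAQ ha)) (hAQ ha) e4.symm
      rwa [MulEquiv.symm_apply_eq, map_one] at this
    · have hf'' := ((M_kNormFS hV.1).1 hf').toM
      exact ih R hf''.le (by rwa [hu.card_im le_rfl] at hR) f' hf''
    · rw [← huA] at hy
      obtain ⟨a, ha, rfl⟩ := (hu.mem_im hAQ).1 hy
      rw [lk a (hAQ ha), eu a ha]
  obtain ⟨g', hg', lg, -⟩ := hg.exists_inv
  refine (hg'.comp (hγ.comp hu fun x hx => mem_im_of_mem u hx) fun x hx => ?_).congr
    fun x hx => by simp only [lk x hx, lg _ (hm x hx)]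
  simp only [lk x hx]
  exact mem_im_of_mem g (hm x hx)

end Cfsg.Agent.H93
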