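import Cfsg.Agent.H93.ExsIdx
import Cfsg.Agent.H93.AbIdx3
import Cfsg.Agent.H93.FactorSat
import Cfsg.Agent.H94.PPower

/-!
# A nilpotency criterion through weakly embedded subgroups
-/

namespace Cfsg.Agent.H93

open Cfsg Cfsg.FusionSystem
open Cfsg.Agent.H91 hiding mem_opIn_of_chain
open scoped commutatorElement

variable {Ω : Type*} [Group Ω] {p : ℕ} {S : Subgroup Ω} {F : FusionSystem S}

theorem exists_between [hp : Fact p.Prime] {A B : Subgroup Ω} [Finite B] (hB : IsPGroup p B)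
    (hAB : A ≤ B) {m : ℕ} (h1 : Nat.card A ≤ p ^ m) (h2 : p ^ m ≤ Nat.card B) :
    ∃ C, A ≤ C ∧ C ≤ B ∧ Nat.card C = p ^ m := by
  haveI := finite_of_le hAB
  obtain ⟨a, ha⟩ := (isPGroup_of_le hB hAB).exists_card_eq
  obtain ⟨b, hb⟩ := hB.exists_card_eq
  rw [ha, Nat.pow_le_pow_iff_right hp.out.one_lt] at h1
  rw [hb, Nat.pow_le_pow_iff_right hp.out.one_lt] at h2
  obtain ⟨K, hK, hK'⟩ := Sylow.exists_subgroup_card_pow_prime_le p (G := B) (hb ▸ pow_dvd_pow p h2)
    (A.subgroupOf B) (by rw [Nat.card_congr (Subgroup.subgroupOfEquivOfLe hAB).toEquiv, ha]) h1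
  exact ⟨K.map B.subtype, fun x hx => ⟨⟨x, hAB hx⟩, hK' hx, rfl⟩, Subgroup.map_subtype_le _,
    by rw [Subgroup.card_map_of_injective B.subtype_injective, hK]⟩

theorem card_le_pow_of_lt [hp : Fact p.Prime] {A : Subgroup Ω} [Finite A] (hA : IsPGroup p A) {m : ℕ}
    (h : Nat.card A < p ^ (m + 1)) : Nat.card A ≤ p ^ m := by
  obtain ⟨a, ha⟩ := hA.exists_card_eq
  rw [ha, Nat.pow_lt_pow_iff_right hp.out.one_lt] at h
  rw [ha]; exact Nat.pow_le_pow_right hp.out.pos (by omega)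

theorem pow_le_card_of_lt [hp : Fact p.Prime] {A : Subgroup Ω} [Finite A] (hA : IsPGroup p A) {m : ℕ}
    (h : p ^ m < Nat.card A) : p ^ (m + 1) ≤ Nat.card A := by
  obtain ⟨a, ha⟩ := hA.exists_card_eq
  rw [ha, Nat.pow_lt_pow_iff_right hp.out.one_lt] at h
  rw [ha]; exact Nat.pow_le_pow_right hp.out.pos h

/-- Every subgroup of order `d` is weakly embedded. -/
def WE (F : FusionSystem S) (d : ℕ) : Prop := ∀ Q, Q ≤ S → Nat.card Q = d →
  ∃ P, F.StronglyClosed P ∧ F.StronglyClosed (Q ⊔ P) ∧ F.StronglyClosed (Q ⊓ P)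

/-- No nontrivial `p'`-automorphism normalizes a normal subgroup of order `d`. -/
def NI (F : FusionSystem S) (p d : ℕ) : Prop := ∀ P H : Subgroup Ω, P ≤ S → H ≤ P →
  P ≤ Subgroup.normalizer (H : Set Ω) → Nat.card H = d → ∀ α ∈ F.autGroup P,
    (orderOf α).Coprime p → (∀ x ∈ H, efn α x ∈ H) → α = 1

theorem exists_restrict [Finite S] {P R : Subgroup Ω} (hP : P ≤ S) (hR : R ≤ P) {α : MulAut P}
    (hα : α ∈ F.autGroup P) (hc : (orderOf α).Coprime p) (h : ∀ x ∈ R, efn α x ∈ R) :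
    ∃ β ∈ F.autGroup R, (orderOf β).Coprime p ∧ ∀ x ∈ R, efn β x = efn α x := by
  have hM := ((mem_autGroup_iff hP).1 hα).restrict hR
  obtain ⟨β, hβ, e⟩ := hM.exists_aut (hM.im_eq_self h)
  exact ⟨β, hβ, hc.coprime_dvd_left (orderOf_dvd_of_pow_eq_one
    (pow_orderOf_eq_one_of_extends hR fun x hx => (e x hx).symm)), e⟩

variable [Finite S] [hp : Fact p.Prime] (hS : IsPGroup p S) (hF : F.IsSaturated p)
include hS hF

theorem hyp_eq_bot_of (h : ∀ R, R ≤ F.hyperfocalSubgroup p → ∀ β ∈ F.autGroup R,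
    (orderOf β).Coprime p → β = 1) : F.hyperfocalSubgroup p = ⊥ := by
  refine eq_bot_iff.2 (hyp_le_iff.2 fun P hP α hα hc x hx => ?_)
  obtain ⟨β, hβ, hc', e⟩ := exists_restrict hP (inf_le_left : P ⊓ F.hyperfocalSubgroup p ≤ P) hα hc
    fun y hy => ⟨efn_mem α hy.1, sc_mem (hyp_stronglyClosed hS hF) ((mem_autGroup_iff hP).1 hα)
      hy.1 hy.2⟩
  rw [fix_of_chain (isPGroup_of_le hS hP) hc
    (fun i => if i = 0 then F.hyperfocalSubgroup p else P) 1 (fun y hy hy' => by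
      rw [← e y ⟨hy, hy'⟩, h _ inf_le_right β hβ hc', efn_one (P := P ⊓ _) ⟨hy, hy'⟩])
    (fun i hi y hy _ => by
      obtain rfl : i = 0 := by omega
      exact mem_hyp_of_coprime hP hα hc hy) x hx hx, inv_mul_cancel]
  exact Subgroup.one_mem _

theorem NI.of_abelian {d : ℕ} (hN : NI F p d) {T : Subgroup Ω} (hT : F.StronglyClosed T)
    (hc : Nat.card T = d) (hab : ∀ x ∈ T, ∀ y ∈ T, x * y = y * x) :
    F.hyperfocalSubgroup p = ⊥ := by
  refine hyp_eq_bot_of hS hF fun R hR β hβ hβc => ?_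
  have hRS := hR.trans (hyp_le F p)
  obtain ⟨g, hg, e, him⟩ := normal_ext (normal_of_sc_abelian hS hF hT hab)
    ((mem_autGroup_iff hRS).1 hβ)
  haveI := finite_of_le hg.le
  obtain ⟨γ, hγ, e'⟩ := hg.exists_aut (by
    rw [hg.homOn.im_sup, him, im_congr e, im_efn])
  obtain ⟨δ, hδ, hδc, e''⟩ := exists_pPrimeElt_extension p le_sup_left hβc hγ
    fun x hx => by rw [e' x (Subgroup.mem_sup_left hx), e x hx]
  have := hN _ T hg.le le_sup_right (hg.le.trans (sc_le_normalizer hT)) hc δ hδ hδc fun x hx =>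
    sc_mem hT ((mem_autGroup_iff hg.le).1 hδ) (Subgroup.mem_sup_right hx) hx
  exact mulAut_ext_efn fun x hx => by
    rw [← e'' x hx, this, efn_one hx, efn_one (Subgroup.mem_sup_left hx)]

omit hS hF hp in
theorem sup_inf_of_sc {Q P T : Subgroup Ω} (hP : F.StronglyClosed P) (hQ : Q ≤ S) (hQT : Q ≤ T)
    (h : P ⊓ T = ⊥) : (Q ⊔ P) ⊓ T = Q := by
  refine le_antisymm (fun x hx => ?_) (le_inf le_sup_left hQT)
  obtain ⟨a, ha, b, hb, rfl⟩ := (mem_sup_of_normalizes (hQ.trans (sc_le_normalizer hP))).1 hx.1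
  have : b ∈ P ⊓ T := ⟨hb, (Subgroup.mul_mem_cancel_left _ (hQT ha)).1 hx.2⟩
  rw [h, Subgroup.mem_bot] at this
  rwa [this, mul_one]

omit hF in
/-- A minimal strongly closed subgroup of order `d` is abelian. -/
theorem WE.abelian {k : ℕ} (hW : WE F (p ^ k)) (hk : p ^ k < Nat.card S) {T : Subgroup Ω}
    (hT : F.StronglyClosed T) (hc : Nat.card T = p ^ k)
    (hmin : ∀ U, F.StronglyClosed U → U ≠ ⊥ → p ^ k ≤ Nat.card U) :
    ∀ x ∈ T, ∀ y ∈ T, x * y = y * x := by
  by_contra hab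
  haveI := finite_of_le hT.1
  have hmin' : ∀ U, F.StronglyClosed U → U ⊓ T ≠ ⊥ → T ≤ U := fun U hU h =>
    inf_eq_right.1 (eq_of_le_of_card_le inf_le_right (hc ▸ hmin _ (sc_inf hU hT) h))
  obtain ⟨U, hTU, hUS, hU⟩ := exists_between hS hT.1 (m := k + 1)
    (hc ▸ Nat.pow_le_pow_right hp.out.pos (Nat.le_succ k)) (pow_le_card_of_lt hS hk)
  haveI := finite_of_le hUS
  have hUp := isPGroup_of_le hS hUS
  have hTi : (T.subgroupOf U).index = p := by
    have := card_mul_relIndex hTU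
    rw [hc, hU, pow_succ] at this
    exact Nat.eq_of_mul_eq_mul_left (pow_pos hp.out.pos k) this
  have key : ∀ Q, Q ≤ U → Nat.card Q = p ^ k → ¬ T ≤ Q →
      ∃ y ∈ U, y ∉ Q ∧ y ∉ T ∧ y ^ p = 1 ∧ ∀ t ∈ T, t * y = y * t := fun Q hQ hQc hTQ => by
    haveI := finite_of_le hQ
    obtain ⟨P, hP, h1, h2⟩ := hW Q (hQ.trans hUS) hQc
    have h3 : Q ⊓ T ≠ ⊥ := fun e => by
      have h4 := H23.card_sup_mul_card_inf (H := Q) (N := T)
        ((hQ.trans hUS).trans (sc_le_normalizer hT))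
      have h5 := card_le_of_le (sup_le hQ hTU)
      rw [e, Subgroup.card_bot, mul_one] at h4
      rw [h4, hQc, hc, hU, pow_succ] at h5
      have h6 := card_eq_prime_of_le (isPGroup_of_le hS hT.1) (fun e => hab fun x hx y hy => by
        rw [Subgroup.mem_bot.1 (e.le hx), one_mul, mul_one])
        (hc ▸ Nat.le_of_mul_le_mul_left h5 (pow_pos hp.out.pos k))
      obtain ⟨z, hz, -⟩ := exists_zpowers_eq h6
      refine hab fun x hx y hy => ?_
      obtain ⟨i, rfl⟩ := hz.ge hx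
      obtain ⟨j, rfl⟩ := hz.ge hy
      exact zpow_mul_comm z i j
    have h4 : Q ⊓ P = ⊥ := by_contra fun e => by
      have := eq_of_le_of_card_le (inf_le_left : Q ⊓ P ≤ Q) (hQc ▸ hmin _ h2 e)
      exact hTQ (hmin' Q (this ▸ h2) h3)
    have h5 : P ⊓ T = ⊥ := by_contra fun e =>
      h3 (eq_bot_iff.2 (h4 ▸ inf_le_inf_left Q (hmin' P hP e)))
    obtain ⟨t, ht, htQ⟩ := SetLike.not_le_iff_exists.1 hTQ
    obtain ⟨a, ha, y, hy, rfl⟩ := (mem_sup_of_normalizes ((hQ.trans hUS).trans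
      (sc_le_normalizer hP))).1 (hmin' _ h1 (fun e =>
        h3 (eq_bot_iff.2 (e ▸ inf_le_inf_right T le_sup_left))) ht)
    have hyU := (Subgroup.mul_mem_cancel_left _ (hQ ha)).1 (hTU ht)
    have hyQ : y ∉ Q := fun h => htQ (Q.mul_mem ha h)
    haveI := H3.normal_of_index_eq hUp hTi
    refine ⟨y, hyU, hyQ, fun h => hyQ ?_, ?_, fun t ht => ?_⟩
    · rw [Subgroup.mem_bot.1 (h5.le ⟨hy, h⟩)]; exact Q.one_mem
    · refine Subgroup.mem_bot.1 (h5.le ⟨P.pow_mem hy p, ?_⟩)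
      have := Subgroup.pow_index_mem (T.subgroupOf U) ⟨y, hyU⟩
      rwa [hTi] at this
    · refine commutatorElement_eq_one_iff_mul_comm.1 (Subgroup.mem_bot.1 (h5.le ⟨?_, ?_⟩))
      · exact P.mul_mem (sc_conj_mem hP (hT.1 ht) hy) (P.inv_mem hy)
      · rw [commutatorElement_def, mul_assoc, mul_assoc, ← mul_assoc y]
        exact T.mul_mem ht (sc_conj_mem hT (hP.1 hy) (T.inv_mem ht))
  obtain ⟨x, hx, hxT⟩ := SetLike.not_le_iff_exists.1 fun e : U ≤ T => by
    have := card_le_of_le e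
    rw [hc, hU, Nat.pow_le_pow_iff_right hp.out.one_lt] at this
    omega
  have hxU := (Subgroup.zpowers_le).2 hx
  haveI := finite_of_le hxU
  obtain ⟨Q₀, h1, h2, h3⟩ := exists_between hUp hxU (m := k)
    (card_le_pow_of_lt (isPGroup_of_le hUp hxU) (hU ▸ card_lt_of_lt (lt_of_le_of_ne hxU fun e =>
      hab fun a ha b hb => by
        obtain ⟨i, rfl⟩ := e.ge (hTU ha)
        obtain ⟨j, rfl⟩ := e.ge (hTU hb)
        exact zpow_mul_comm x i j)))
    (hU ▸ Nat.pow_le_pow_right hp.out.pos (Nat.le_succ k))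
  haveI := finite_of_le h2
  obtain ⟨y, hy, -, hyT, hyp, hyc⟩ := key Q₀ h2 h3 fun e =>
    hxT ((eq_of_le_of_card_le e (by rw [h3, hc])).ge (h1 (Subgroup.mem_zpowers x)))
  have hZ : centralizerIn T T < T := lt_of_le_of_ne (centralizerIn_le T T) fun e =>
    hab fun a ha b hb => (mem_centralizerIn.1 (e.ge hb)).2 a ha
  haveI := finite_of_le hZ.le
  have h4 := card_lt_of_lt hZ
  obtain ⟨j, rfl⟩ : ∃ j, k = j + 1 := by
    rcases k with _ | j
    · have : 0 < Nat.card (centralizerIn T T) := Nat.card_pos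
      rw [hc, pow_zero] at h4
      omega
    · exact ⟨j, rfl⟩
  obtain ⟨M, h5, h6, h7⟩ := exists_between (isPGroup_of_le hS hT.1) hZ.le (m := j)
    (card_le_pow_of_lt (isPGroup_of_le hS (hZ.le.trans hT.1)) (hc ▸ h4))
    (hc ▸ Nat.pow_le_pow_right hp.out.pos (Nat.le_succ j))
  have h8 := card_sup_zpowers_of_pow (N := M) (t := y) (mem_normalizer_of_conj_mem'
    (fun a ha => by rwa [← hyc a (h6 ha), mul_inv_cancel_right])
    fun a ha => by rwa [mul_assoc, hyc a (h6 ha), inv_mul_cancel_left]) hyp fun h => hyT (h6 h)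
  have h9 : M ⊔ Subgroup.zpowers y ≤ U := sup_le (h6.trans hTU) ((Subgroup.zpowers_le).2 hy)
  haveI := finite_of_le h9
  rw [h7, ← pow_succ] at h8
  obtain ⟨y', hy', hyQ, -, -, hyc'⟩ := key _ h9 h8 fun e => hyT
    ((eq_of_le_of_card_le e (by rw [h8, hc])).ge (Subgroup.mem_sup_right (Subgroup.mem_zpowers y)))
  obtain ⟨t, ht, i, rfl⟩ := dec_of_index hUp hTU hTi hy hyT hy'
  refine hyQ (Subgroup.mul_mem_sup (h5 (mem_centralizerIn.2 ⟨ht, fun a ha => ?_⟩)) ⟨i, rfl⟩)
  have := hyc' a ha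
  rwa [mul_assoc t, ← (Commute.zpow_right (hyc a ha) i).eq, ← mul_assoc, ← mul_assoc,
    mul_left_inj] at this

theorem hyp_eq_bot_base {k : ℕ} (hW : WE F (p ^ k)) (hN : NI F p (p ^ k)) (hk0 : k ≠ 0)
    (hk : p ^ k < Nat.card S) (hM : ∀ U, F.StronglyClosed U → U ≠ ⊥ → Nat.card U < p ^ k →
      F.hyperfocalSubgroup p ≤ U) : F.hyperfocalSubgroup p = ⊥ := by
  by_contra hK
  have hKs := hyp_stronglyClosed hS hF
  haveI := finite_of_le hKs.1
  obtain ⟨T, ⟨hT, hT1, hTK⟩, hmin⟩ := exists_minimalFor_of_wellFoundedLT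
    (fun T : Subgroup Ω => F.StronglyClosed T ∧ T ≠ ⊥ ∧ T ≤ F.hyperfocalSubgroup p)
    (fun T => Nat.card T) ⟨_, hKs, hK, le_rfl⟩
  haveI := finite_of_le hT.1
  have hmin' : ∀ U, F.StronglyClosed U → U ⊓ T ≠ ⊥ → T ≤ U := fun U hU h =>
    inf_eq_right.1 (eq_of_le_of_card_le inf_le_right
      (hmin ⟨sc_inf hU hT, h, inf_le_right.trans hTK⟩ (card_le_of_le inf_le_right)))
  have h1k : 1 < p ^ k := Nat.one_lt_pow hk0 hp.out.one_lt
  have hne : ∀ {Q : Subgroup Ω}, Nat.card Q = p ^ k → Q ≠ ⊥ := fun h e => by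
    rw [e, Subgroup.card_bot] at h; omega
  rcases lt_trichotomy (Nat.card T) (p ^ k) with hlt | heq | hgt
  · have hKT := le_antisymm (hM T hT hT1 hlt) hTK
    rw [← hKT] at hlt
    have hall : ∀ U, F.StronglyClosed U → U ≠ ⊥ → F.hyperfocalSubgroup p ≤ U := fun U hU hU1 => by
      refine hKT ▸ hmin' U hU fun e => ?_
      haveI := sc_normal hU
      obtain ⟨z, hzU, hz, ho⟩ := H3.exists_mem_center_orderOf_eq hS (U.subgroupOf S) fun e' =>
        hU1 (eq_bot_iff.2 fun x hx => congrArg Subtype.val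
          (Subgroup.mem_bot.1 (e'.le (show (⟨x, hU.1 hx⟩ : S) ∈ U.subgroupOf S from hx))))
      have hzU' := (Subgroup.zpowers_le (H := U)).2 hzU
      have h1 : F.StronglyClosed (Subgroup.zpowers (z : Ω)) := stronglyClosed_iff.2
        ⟨hzU'.trans hU.1, fun P f hf x hx hx' => by
          obtain ⟨s, hs, h2⟩ := exists_conj_mod_hyp hS hF hf
          have h3 := h2 x hx
          have h4 : s * x = x * s := (Subgroup.zpowers_le (H := Subgroup.centralizer {s})).2 (by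
            rintro _ rfl
            exact congrArg Subtype.val (Subgroup.mem_center_iff.1 hz ⟨_, hs⟩)) hx' s rfl
          rw [h4, mul_inv_cancel_right, hKT] at h3
          have h5 := e.le ⟨U.mul_mem (U.inv_mem (hzU' hx')) (sc_mem hU hf hx (hzU' hx')), h3⟩
          rwa [← inv_mul_eq_one.1 (Subgroup.mem_bot.1 h5)]⟩
      have h2 : Nat.card (Subgroup.zpowers (z : Ω)) = p := by
        rw [Nat.card_zpowers, Subgroup.orderOf_coe, ho]
      have h3 := hM _ h1 (fun e => by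
        rw [e, Subgroup.card_bot] at h2; exact hp.out.one_lt.ne h2) (by
        have := pow_le_card_of_lt (m := 0) (isPGroup_of_le hS hKs.1)
          ((Subgroup.one_lt_card_iff_ne_bot _).2 hK)
        rw [zero_add, pow_one] at this
        omega)
      exact hT1 (eq_bot_iff.2 (e ▸ le_inf (hTK.trans (h3.trans hzU')) le_rfl))
    by_cases hKp : Nat.card (F.hyperfocalSubgroup p) = p
    · haveI := sc_normal hKs
      obtain ⟨z, hz, hzc, -, hz'⟩ := exists_gen_of_card hS ((F.hyperfocalSubgroup p).subgroupOf S)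
        (by rw [Nat.card_congr (Subgroup.subgroupOfEquivOfLe hKs.1).toEquiv, hKp])
      have hKZ : F.hyperfocalSubgroup p ≤ centralizerIn S S := fun x hx =>
        (Subgroup.zpowers_le).2 (mem_centralizerIn.2 ⟨hz, hzc⟩) ((hz' ⟨x, hKs.1 hx⟩).1 hx)
      refine hK (hyp_eq_bot_of hS hF fun R hR β hβ hβc => ?_)
      obtain ⟨φ, hφ, e⟩ := exists_aut_of_central hS hF
        ((mem_autGroup_iff (hR.trans hKs.1)).1 hβ) le_rfl (hR.trans hKZ)
        fun x hx => hKZ (hR (efn_mem β hx))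
      obtain ⟨ψ, hψ, hψc, e'⟩ := exists_pPrimeElt_extension p (hR.trans hKs.1) hβc hφ e
      obtain ⟨H, h1, h2, h3⟩ := exists_between hS hKs.1 hlt.le hk.le
      obtain ⟨γ, hγ, hγc, e''⟩ := exists_restrict le_rfl h2 hψ hψc fun x hx => by
        have := H.mul_mem hx (h1 (mem_hyp_of_coprime le_rfl hψ hψc (h2 hx)))
        rwa [mul_inv_cancel_left] at this
      have := hN H H h2 le_rfl Subgroup.le_normalizer h3 γ hγ hγc fun x hx => efn_mem γ hx
      exact mulAut_ext_efn fun x hx => by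
        rw [← e' x hx, ← e'' x (h1 (hR hx)), this, efn_one hx, efn_one (h1 (hR hx))]
    · obtain ⟨U, hKU, hUS, hU⟩ := exists_between hS hKs.1 (m := k + 1)
        (hlt.le.trans (Nat.pow_le_pow_right hp.out.pos (Nat.le_succ k))) (pow_le_card_of_lt hS hk)
      haveI := finite_of_le hUS
      have hUp := isPGroup_of_le hS hUS
      have hΦ : F.hyperfocalSubgroup p ≤ (frattini U).map U.subtype := fun x hx =>
        ⟨⟨x, hKU hx⟩, H3.mem_frattini_iff.2 fun M hM => by_contra fun hxM => by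
          have h1 : Nat.card (M.map U.subtype) = p ^ k := by
            have := M.card_mul_index
            rw [H3.index_eq_of_isCoatom hUp hM, hU, pow_succ] at this
            rw [Subgroup.card_map_of_injective U.subtype_injective]
            exact Nat.eq_of_mul_eq_mul_right hp.out.pos this
          have h2 : ¬ F.hyperfocalSubgroup p ≤ M.map U.subtype := fun e => by
            obtain ⟨y, hy, e'⟩ := e hx
            exact hxM ((Subtype.ext e' : y = ⟨x, hKU hx⟩) ▸ hy)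
          have h3 := (Subgroup.map_subtype_le M).trans hUS
          obtain ⟨P, hP, h4, h5⟩ := hW _ h3 h1
          have h6 : M.map U.subtype ⊓ P = ⊥ := by_contra fun e =>
            h2 ((hall _ h5 e).trans inf_le_left)
          have h7 := hall P hP fun e => by
            rw [e, sup_bot_eq] at h4
            exact h2 (hall _ h4 (hne h1))
          have h8 := H23.card_sup_mul_card_inf (H := M.map U.subtype)
            (N := F.hyperfocalSubgroup p) (h3.trans (sc_le_normalizer hKs))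
          have h9 := card_le_of_le (sup_le (Subgroup.map_subtype_le M) hKU)
          rw [eq_bot_iff.2 ((inf_le_inf_left _ h7).trans h6.le), Subgroup.card_bot, mul_one] at h8
          rw [h8, h1, hU, pow_succ] at h9
          exact hKp (card_eq_prime_of_le (isPGroup_of_le hS hKs.1) hK
            (Nat.le_of_mul_le_mul_left h9 (pow_pos hp.out.pos k))), rfl⟩
      have hE := inner_iff.1 (inner_of_hyp_le_frattini hUp (H94.ppFS_saturated hS hF hUS hKU)
        ((hyp_mono (H94.ppFS_isSubsystemOf F p hUS)).trans hΦ))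
      refine hK (hyp_eq_bot_of hS hF fun R hR β hβ hβc => ?_)
      obtain ⟨g, hg, e⟩ := hE R _ ((mem_autGroup_iff (hR.trans hKU)).1
        (H94.mem_autGroup_ppFS hUS (hR.trans hKU) hβ hβc))
      obtain ⟨v, hv⟩ := pow_eq_one_of_mem_isPGroup (isPGroup_autInducedBy hUp R)
        (mem_autInducedBy_iff.2 ⟨g, hg, fun x => by rw [← e x x.2, efn_coe]⟩)
      exact orderOf_eq_one_iff.1 ((hβc.pow_right v).eq_one_of_dvd (orderOf_dvd_of_pow_eq_one hv))
  · refine hK (hN.of_abelian hS hF hT heq (hW.abelian hS hk hT heq fun U hU hU1 => ?_))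
    by_contra hlt
    haveI := finite_of_le hU.1
    have := card_le_of_le (hTK.trans (hM U hU hU1 (not_le.1 hlt)))
    omega
  · obtain ⟨Q, -, hQ, hQc⟩ := exists_between (isPGroup_of_le hS hT.1) bot_le (m := k)
      (by rw [Subgroup.card_bot]; exact h1k.le) hgt.le
    obtain ⟨P, hP, h1, h2⟩ := hW Q (hQ.trans hT.1) hQc
    haveI := finite_of_le hQ
    have h3 : F.StronglyClosed Q := by
      by_cases h : P ⊓ T = ⊥
      · exact sup_inf_of_sc hP (hQ.trans hT.1) hQ h ▸ sc_inf h1 hT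
      · rwa [inf_eq_left.2 (hQ.trans (hmin' P hP h))] at h2
    have := card_le_of_le (hmin' Q h3 (by rw [inf_eq_left.2 hQ]; exact hne hQc))
    omega

theorem hyp_eq_bot_of_WE {k : ℕ} (hW : WE F (p ^ k)) (hN : NI F p (p ^ k)) (hk0 : k ≠ 0)
    (hk : p ^ k < Nat.card S) : F.hyperfocalSubgroup p = ⊥ := by
  by_contra hK
  have h1k : 1 < p ^ k := Nat.one_lt_pow hk0 hp.out.one_lt
  obtain ⟨T, ⟨hT, hTk, hKT⟩, hmax⟩ := exists_maximalFor_of_wellFoundedGT
    (fun T : Subgroup Ω => F.StronglyClosed T ∧ Nat.card T < p ^ k ∧ ¬ F.hyperfocalSubgroup p ≤ T)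
    (fun T => (⟨min (Nat.card T) (p ^ k), Nat.lt_succ_of_le (min_le_right _ _)⟩ : Fin (p ^ k + 1)))
    ⟨⊥, sc_bot F, by rwa [Subgroup.card_bot], fun e => hK (eq_bot_iff.2 e)⟩
  haveI := sc_normal hT
  haveI := finite_of_le hT.1
  obtain ⟨E, hE⟩ := exists_factorSystem hT
  obtain ⟨hker, hE⟩ := isFactorSystem_iff.1 hE
  set θ := QuotientGroup.mk' (T.subgroupOf S)
  have hT' : F.StronglyClosed (preimageAlong θ ⊥) := by rw [hker]; exact hT
  have hc : ∀ Q', Nat.card (preimageAlong θ Q') = Nat.card T * Nat.card Q' := fun Q' => by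
    rw [homOn_card ((homOn_fn θ).mono (pre_le θ Q')) (K := T) fun x hx =>
      ⟨fun h => hker.le (mem_pre_bot.2 ⟨pre_le θ Q' hx, h⟩), fun h => (mem_pre_bot.1 (hker.ge h)).2⟩,
      hE.im_pre le_top, inf_eq_right.2 (hker.ge.trans (pre_mono θ bot_le))]
  obtain ⟨a, ha⟩ := (isPGroup_of_le hS hT.1).exists_card_eq
  obtain ⟨j, rfl⟩ : ∃ j, k = a + (j + 1) := by
    rw [ha, Nat.pow_lt_pow_iff_right hp.out.one_lt] at hTk
    exact ⟨k - a - 1, by omega⟩
  have hpa := pow_pos hp.out.pos a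
  have := hyp_eq_bot_base (hE.isPGroup hS) (hE.saturated hS hF hT') (k := j + 1)
    (fun Q' _ hQ' => ?_) (fun P' H' _ hH hn hH' α hα hαc hαH => ?_) (by omega) ?_
    fun U' hU' hU1 hUc => ?_
  · rw [hE.hyp_eq hS hF hT'] at this
    exact hKT (((le_pre_im (hyp_le F p)).trans (pre_mono θ this.le)).trans hker.le)
  · obtain ⟨P, hP, h1, h2⟩ := hW _ (pre_le θ Q') (by rw [hc, ha, hQ', ← pow_add])
    refine ⟨_, hE.sc_im hS hF hT' hP, ?_, ?_⟩
    · have := hE.sc_im hS hF hT' h1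
      rwa [((homOn_fn θ).mono h1.1).im_sup, hE.im_pre le_top] at this
    · convert hE.sc_im hS hF hT' h2 using 1
      refine le_antisymm (fun y hy => ?_) (im_le_iff.2 fun x hx =>
        ⟨(mem_pre.1 hx.1).2, mem_im_of_mem _ hx.2⟩)
      obtain ⟨x, hx, rfl⟩ := (mem_im_fn hP.1).1 hy.2
      exact mem_im_of_mem _ ⟨mem_pre.2 ⟨hP.1 hx, hy.1⟩, hx⟩
  · obtain ⟨P, hP, hTP, rfl⟩ : ∃ P, P ≤ S ∧ preimageAlong θ ⊥ ≤ P ∧ im (fn θ) P = P' :=
      ⟨_, pre_le θ P', pre_mono θ bot_le, hE.im_pre le_top⟩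
    obtain ⟨π, hπ⟩ := exists_autHom (E := E) (θ := θ) hP fun f hf => hE.desc hT' hf hTP
    haveI := finite_autGroup F hP
    obtain ⟨β, hβ⟩ := hE.autHom_surjective hP hTP hπ ⟨α, hα⟩
    obtain ⟨m, hm, hm'⟩ := exists_pPrimePart p β
    have h1 : π (β ^ m) = ⟨α, hα⟩ := by
      rw [map_pow, hβ]
      exact hm' _ (by rwa [← Subgroup.orderOf_coe]) (by rw [← hβ, ← map_pow, pow_orderOf_eq_one, map_one])
    have h2 := hπ (β ^ m)
    rw [h1] at h2
    have h3 : preimageAlong θ H' ≤ P := (pre_mono θ hH).trans (pre_im_of_le hP hTP).le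
    have h4 := hN P _ hP h3 (fun g hg => mem_normalizer_pre (hP hg) (hn (mem_im_of_mem _ hg)))
      (by rw [hc, ha, hH', ← pow_add]) _ (β ^ m).2 (by rwa [Subgroup.orderOf_coe]) fun x hx =>
        mem_pre.2 ⟨hP (efn_mem _ (h3 hx)), by rw [← h2 x (h3 hx)]; exact hαH _ (mem_pre.1 hx).2⟩
    rw [show β ^ m = 1 from Subtype.ext h4, map_one] at h1
    exact (congrArg Subtype.val h1).symm
  · have := hc ⊤
    rw [hE.pre_top, ha] at this
    rw [this, pow_add] at hk
    exact Nat.lt_of_mul_lt_mul_left hk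
  · rw [hE.hyp_eq hS hF hT', ← hE.im_pre hU'.1]
    refine im_mono _ (by_contra fun h => ?_)
    have h1 : Nat.card (preimageAlong θ U') < p ^ (a + (j + 1)) := by
      rw [hc, ha, pow_add]; exact Nat.mul_lt_mul_of_pos_left hUc hpa
    have h2 : Nat.card T < Nat.card (preimageAlong θ U') := by
      rw [hc]
      exact lt_mul_of_one_lt_right Nat.card_pos ((Subgroup.one_lt_card_iff_ne_bot _).2 hU1)
    have := hmax ⟨hE.sc_pre hS hF hT' hU', h1, h⟩ (min_le_min_right _ h2.le)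
    rw [Fin.mk_le_mk, min_eq_left h1.le, min_eq_left hTk.le] at this
    omega

theorem NI.of_norm {d : ℕ} (h : ∀ H : Subgroup Ω, F.IsFullyNormalized H → Nat.card H = d →
    ∀ N : FusionSystem (normalizerIn S H), F.IsNormalizerSystem H N →
      ∀ P : Subgroup Ω, N.Hom P = (innerFusionSystem (normalizerIn S H)).Hom P) : NI F p d := by
  intro P H hP hH hn hc α hα hαc hαH
  obtain ⟨g, hg, hfn⟩ := sat_exists_fullyNormalized hS hF (hH.trans hP)
  have hPN : P ≤ normalizerIn S H := fun x hx => ⟨hP hx, hn hx⟩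
  have hg' := hg.restrict hPN
  have hβ := mem_autGroup_congr (hg'.efn_equiv_M rfl) hα
  have hM := (mem_autGroup_iff hg'.im_le).1 hβ
  haveI := finite_of_le hfn.1
  obtain ⟨s, hs, e⟩ := inner_iff.1 (h _ hfn ((hg'.card_im hH).trans hc) _
    (normFS_isNormalizerSystem hfn.1)) _ _ ((M_normFS hfn.1).2 (hM.toNM (im_mono g hH)
      ((hM.restrict (im_mono g hH)).im_eq_self fun y hy => by
        obtain ⟨x, hx, rfl⟩ := (hg'.mem_im hH).1 hy
        rw [← hg'.efn_equiv rfl (hH hx), efn_congr _ _ (hH hx), hg'.efn_equiv rfl (efn_mem _ (hH hx))]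
        exact mem_im_of_mem _ (hαH x hx)) le_rfl
      (im_le_iff.2 fun x hx => hg'.map_mem_normalizer hH hx (hn hx))))
  obtain ⟨v, hv⟩ := pow_eq_one_of_mem_isPGroup (isPGroup_autInducedBy hS _)
    (mem_autInducedBy_iff.2 ⟨s, hs.1, fun x => by rw [← e x x.2, efn_coe]⟩)
  rw [← map_pow, MulEquiv.map_eq_one_iff] at hv
  exact orderOf_eq_one_iff.1 ((hαc.pow_right v).eq_one_of_dvd (orderOf_dvd_of_pow_eq_one hv))

end Cfsg.Agent.H93
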